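import Cfsg.Agent.Lib.FischerM23.Model
import Cfsg.Agent.Lib.FischerType.Levels

/-!
Certificates for line-closed sets of points in the model of `Fi22`, and their transfer to a link.
-/

set_option autoImplicit false

namespace CfsgLib.FischerM23

open CfsgLib.CosetEnum
open CfsgLib.ThreeTrans (link)
open CfsgLib.FischerType (link_conj_mem)

variable {G : Type*} [Group G] {D : Set G} {d : G} {f : Fin 3510 → G}

/-- A labelling of the link of `d` by the points of the model. -/
structure PointMap (D : Set G) (d : G) (f : Fin 3510 → G) : Prop where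
  cls : Cfsg.IsThreeTranspositionClass D
  mem : ∀ p, f p ∈ link D d
  surj : ∀ x ∈ link D d, ∃ p, f p = x
  inj : Function.Injective f
  conj : ∀ p q, f p * f q * (f p)⁻¹ = f (Fi22.π (tp p) q)
  lift : ∀ w, ∃ g : G, g * d * g⁻¹ = d ∧ ∀ p, g * f p * g⁻¹ = f (Fi22.π w p)

theorem PointMap.commute_iff (M : PointMap D d f) (p q : Fin 3510) :
    Commute (f p) (f q) ↔ Fi22.π (tp p) q = q := by
  rw [← M.inj.eq_iff (a := Fi22.π (tp p) q), ← M.conj, mul_inv_eq_iff_eq_mul]
  rfl

theorem mem_link_conj_iff (hc : Cfsg.IsThreeTranspositionClass D) (g : G) (x y : G) :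
    g * y * g⁻¹ ∈ link D (g * x * g⁻¹) ↔ y ∈ link D x := by
  refine ⟨fun h => ?_, fun h => link_conj_mem hc g h⟩
  have h2 := link_conj_mem hc g⁻¹ h
  have e : ∀ z : G, g⁻¹ * (g * z * g⁻¹) * g⁻¹⁻¹ = z := fun z => by group
  rwa [e, e] at h2

/-- One step of a program: conjugate entry `j` by entry `i`, whose word is `w`, giving `v`. -/
structure Step where
  i : ℕ
  j : ℕ
  w : List ℕ
  v : ℕ

/-- A step is right for the values so far. -/
noncomputable def stepTest (vals : List ℕ) (s : Step) : Bool :=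
  s.w.all (fun x => Nat.blt x 16) && Nat.blt s.i vals.length && Nat.blt s.j vals.length &&
    Nat.beq (scan Fi22.table s.w 0) (vals.getD s.i 0) &&
    Nat.beq (scan Fi22.table (s.w.reverse ++ [0] ++ s.w) (vals.getD s.j 0)) s.v

/-- Run a program, then test the values. -/
noncomputable def run1 (k : List ℕ → Bool) : List Step → List ℕ → Bool
  | [], vals => k vals
  | s :: r, vals => stepTest vals s && run1 k r (vals ++ [s.v])

/-- A pair of parallel steps with the same indices. -/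
noncomputable def run2 (k : List ℕ → List ℕ → Bool) :
    List (Step × Step) → List ℕ → List ℕ → Bool
  | [], A, B => k A B
  | s :: r, A, B => Nat.beq s.1.i s.2.i && Nat.beq s.1.j s.2.j && stepTest A s.1 && stepTest B s.2 &&
      run2 k r (A ++ [s.1.v]) (B ++ [s.2.v])

/-- Two programs differ in the equality of two entries. -/
noncomputable def differAt (i j : ℕ) (A B : List ℕ) : Bool :=
  Nat.blt i A.length && Nat.blt j A.length && Nat.blt i B.length && Nat.blt j B.length &&
    !(Nat.beq (A.getD i 0) (A.getD j 0) == Nat.beq (B.getD i 0) (B.getD j 0))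

theorem stepTest_spec {vals : List ℕ} {s : Step} (h : stepTest vals s = true)
    (hlt : ∀ i < vals.length, vals.getD i 0 < 3510) :
    s.i < vals.length ∧ s.j < vals.length ∧ ∀ (a : vals.getD s.i 0 < 3510) (b : vals.getD s.j 0 < 3510),
      ((Fi22.π (tp ⟨_, a⟩) ⟨_, b⟩ : Fin 3510) : ℕ) = s.v := by
  unfold stepTest at h
  simp only [Bool.and_eq_true, List.all_eq_true] at h
  obtain ⟨⟨⟨⟨hw, hi⟩, hj⟩, hv⟩, hnew⟩ := h
  refine ⟨Nat.le_of_ble_eq_true hi, Nat.le_of_ble_eq_true hj, fun a b => ?_⟩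
  rw [π_tp_word s.w (fun x hx => Nat.le_of_ble_eq_true (hw x hx)) ⟨_, a⟩ (Nat.eq_of_beq_eq_true hv)]
  exact Nat.eq_of_beq_eq_true hnew

/-- The point is in the common link with `c`. -/
def InT (D : Set G) (f : Fin 3510 → G) (c : G) (a : ℕ) : Prop :=
  ∃ h : a < 3510, f ⟨a, h⟩ ∈ link D c

/-- Conjugation by `g` takes point `a` to point `b`. -/
def Rel (f : Fin 3510 → G) (g : G) (a b : ℕ) : Prop :=
  ∃ (ha : a < 3510) (hb : b < 3510), g * f ⟨a, ha⟩ * g⁻¹ = f ⟨b, hb⟩

theorem run1_spec (M : PointMap D d f) (c : G) (k : List ℕ → Bool) :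
    ∀ (prog : List Step) (vals : List ℕ), run1 k prog vals = true →
      (∀ i < vals.length, InT D f c (vals.getD i 0)) →
      ∃ vals', k vals' = true ∧ ∀ i < vals'.length, InT D f c (vals'.getD i 0) := by
  intro prog
  induction prog with
  | nil => intro vals h hT; exact ⟨vals, h, hT⟩
  | cons s r ih =>
    intro vals h hT
    simp only [run1, Bool.and_eq_true] at h
    obtain ⟨hi, hj, hv⟩ := stepTest_spec h.1 fun i hi => (hT i hi).1
    obtain ⟨ha, hfa⟩ := hT _ hi
    obtain ⟨hb, hfb⟩ := hT _ hj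
    refine ih _ h.2 fun i hi' => ?_
    rw [List.length_append, List.length_singleton] at hi'
    rcases Nat.lt_succ_iff_lt_or_eq.1 hi' with hlt | rfl
    · rw [List.getD_append _ _ _ _ hlt]; exact hT i hlt
    · rw [List.getD_append_right _ _ _ _ le_rfl]
      simp only [Nat.sub_self, List.getD_cons_zero]
      refine ⟨hv ha hb ▸ Fin.isLt _, ?_⟩
      have e : (⟨s.v, hv ha hb ▸ Fin.isLt _⟩ : Fin 3510) = Fi22.π (tp ⟨_, ha⟩) ⟨_, hb⟩ :=
        Fin.ext (hv ha hb).symm
      rw [e, ← M.conj]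
      have h1 := link_conj_mem M.cls (f ⟨_, ha⟩) hfb
      rwa [CfsgLib.ThreeTrans.conj_self_of_commute hfa.2.2.symm] at h1

theorem run2_spec (M : PointMap D d f) (g : G) (k : List ℕ → List ℕ → Bool) :
    ∀ (prog : List (Step × Step)) (A B : List ℕ), run2 k prog A B = true → A.length = B.length →
      (∀ i < A.length, Rel f g (A.getD i 0) (B.getD i 0)) →
      ∃ A' B', k A' B' = true ∧ A'.length = B'.length ∧
        ∀ i < A'.length, Rel f g (A'.getD i 0) (B'.getD i 0) := by
  intro prog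
  induction prog with
  | nil => intro A B h hl hR; exact ⟨A, B, h, hl, hR⟩
  | cons s r ih =>
    intro A B h hl hR
    simp only [run2, Bool.and_eq_true] at h
    obtain ⟨⟨⟨⟨he1, he2⟩, hA⟩, hB⟩, hrest⟩ := h
    obtain ⟨hi, hj, hv⟩ := stepTest_spec hA fun i hi => (hR i hi).1
    obtain ⟨hi', hj', hv'⟩ := stepTest_spec hB fun i hi => (hR i (hl ▸ hi)).2.1
    obtain ⟨ha, hb, hab⟩ := hR _ hi
    obtain ⟨hc, hd, hcd⟩ := hR _ hj
    refine ih _ _ hrest (by simp [hl]) fun i hilt => ?_
    rw [List.length_append, List.length_singleton] at hilt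
    rcases Nat.lt_succ_iff_lt_or_eq.1 hilt with hlt | rfl
    · rw [List.getD_append _ _ _ _ hlt, List.getD_append _ _ _ _ (hl ▸ hlt)]; exact hR i hlt
    · rw [List.getD_append_right _ _ _ _ le_rfl, List.getD_append_right _ _ _ _ hl.ge, hl]
      simp only [Nat.sub_self, List.getD_cons_zero]
      have hb' : B.getD s.2.i 0 < 3510 := Nat.eq_of_beq_eq_true he1 ▸ hb
      have hd' : B.getD s.2.j 0 < 3510 := Nat.eq_of_beq_eq_true he2 ▸ hd
      refine ⟨hv ha hc ▸ Fin.isLt _, hv' hb' hd' ▸ Fin.isLt _, ?_⟩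
      have e1 : (⟨s.1.v, hv ha hc ▸ Fin.isLt _⟩ : Fin 3510) = Fi22.π (tp ⟨_, ha⟩) ⟨_, hc⟩ :=
        Fin.ext (hv ha hc).symm
      have e2 : (⟨s.2.v, hv' hb' hd' ▸ Fin.isLt _⟩ : Fin 3510) = Fi22.π (tp ⟨_, hb'⟩) ⟨_, hd'⟩ :=
        Fin.ext (hv' hb' hd').symm
      rw [e1, e2, ← M.conj, ← M.conj,
        show (⟨_, hb'⟩ : Fin 3510) = ⟨_, hb⟩ from Fin.ext (congrArg (B.getD · 0) (Nat.eq_of_beq_eq_true he1).symm),
        show (⟨_, hd'⟩ : Fin 3510) = ⟨_, hd⟩ from Fin.ext (congrArg (B.getD · 0) (Nat.eq_of_beq_eq_true he2).symm),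
        ← hab, ← hcd]
      group

theorem differ_false (M : PointMap D d f) (g : G) {prog : List (Step × Step)} {A B : List ℕ} {i j : ℕ}
    (hl : A.length = B.length) (hR : ∀ i < A.length, Rel f g (A.getD i 0) (B.getD i 0))
    (h : run2 (differAt i j) prog A B = true) : False := by
  obtain ⟨A', B', hk, hl', hR'⟩ := run2_spec M g _ prog A B h hl hR
  unfold differAt at hk
  simp only [Bool.and_eq_true] at hk
  obtain ⟨⟨⟨⟨hi, hj⟩, -⟩, -⟩, hne⟩ := hk
  obtain ⟨a, b, hab⟩ := hR' i (Nat.le_of_ble_eq_true hi)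
  obtain ⟨a', b', hab'⟩ := hR' j (Nat.le_of_ble_eq_true hj)
  have key : A'.getD i 0 = A'.getD j 0 ↔ B'.getD i 0 = B'.getD j 0 := by
    constructor
    · intro h
      have h1 : (⟨_, a⟩ : Fin 3510) = ⟨_, a'⟩ := Fin.ext h
      rw [← h1, hab] at hab'
      exact congrArg Fin.val (M.inj hab')
    · intro h
      have h1 : (⟨_, b⟩ : Fin 3510) = ⟨_, b'⟩ := Fin.ext h
      rw [← h1, ← hab, mul_left_inj, mul_right_inj] at hab'
      exact (congrArg Fin.val (M.inj hab')).symm
  rw [Bool.not_eq_true'] at hne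
  have e : Nat.beq (A'.getD i 0) (A'.getD j 0) = Nat.beq (B'.getD i 0) (B'.getD j 0) := by
    rw [Bool.eq_iff_iff]
    exact ⟨fun h => by rw [key.1 (Nat.eq_of_beq_eq_true h)]; exact Nat.beq_refl _,
      fun h => by rw [key.2 (Nat.eq_of_beq_eq_true h)]; exact Nat.beq_refl _⟩
  rw [e, beq_self_eq_true] at hne
  exact Bool.noConfusion hne

/-- Columns composed from realised columns are realised. -/
theorem realised_comp {T T' : List Tr} (hT : Realised Fi22.π ⊤ T) (ws : List (List ℕ))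
    (hws : (ws.all fun l => l.all fun x => Nat.blt x T.length) = true) (hlen : ws.length = T'.length)
    (hcomp : ∀ k < 3510, compOK T T' ws k = true) : Realised Fi22.π ⊤ T' := by
  intro j hj
  simp only [List.all_eq_true] at hws
  have hj' : j < ws.length := hlen ▸ hj
  obtain ⟨z, hz, hzk⟩ := realised_scan Fi22.π hT ws[j]
    fun x hx => Nat.le_of_ble_eq_true (hws _ (List.getElem_mem hj') x hx)
  refine ⟨z, hz, fun k => ?_⟩
  have := Nat.eq_of_beq_eq_true (allFrom_spec _ _ _ (hcomp k k.2) j (Nat.zero_le _) (by omega))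
  rw [List.getD_eq_getElem _ _ hj'] at this
  rw [hzk, this]

end CfsgLib.FischerM23
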