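import Cfsg.Agent.Lib.FischerM23.N0

/-!
Some member outside the link of `d` commutes with eight of the nine generator points.
-/

set_option autoImplicit false

namespace CfsgLib.FischerM23

open CfsgLib.CosetEnum
open CfsgLib.ThreeTrans (link commute_conj_iff' conj_conj_eq conj_self_of_commute)
open CfsgLib.FischerType (link_conj_mem)

variable {G : Type*} [Group G] {D : Set G} {d : G} {f : Fin 3510 → G}

/-- Words moving the base point to the nine generator points. -/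
def ptWords : List (List ℕ) := [[], [1, 0], [1, 0, 2, 1], [1, 0, 2, 1, 3, 2], [1, 0, 2, 1, 3, 2, 4, 3],
  [1, 0, 2, 1, 3, 2, 4, 3, 5, 4], [1, 0, 2, 1, 3, 2, 4, 3, 5, 4, 6, 5], [1, 0, 2, 1, 3, 2, 7, 3],
  [1, 0, 2, 1, 3, 2, 7, 3, 8, 7]]

theorem gen_words : allFrom (fun x => (ptWords.getD x []).all (fun y => Nat.blt y 16) &&
    Nat.beq (scan Fi22.table (ptWords.getD x []) 0) (pts.getD x 0) && Nat.blt (pts.getD x 0) 3510) 9 0 = true := by
  decide +kernel

theorem gen_cols_0 : allFrom (fun k => allFrom (fun x =>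
    Nat.beq (tScan (ptWords.getD x []) k) (act Fi22.table x k)) 9 0) 1755 0 = true := by decide +kernel

theorem gen_cols_1755 : allFrom (fun k => allFrom (fun x =>
    Nat.beq (tScan (ptWords.getD x []) k) (act Fi22.table x k)) 9 0) 1755 1755 = true := by decide +kernel

/-- The points of the generators. -/
def pt (x : Fin 9) : Fin 3510 :=
  ⟨pts.getD x 0, (by decide : ∀ y : Fin 9, pts.getD y 0 < 3510) x⟩

/-- A generator is the transposition of its point. -/
theorem gen_eq (x : Fin 9) : Fi22.g x = tp (pt x) := by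
  have h := allFrom_spec _ _ _ gen_words x (Nat.zero_le _) (by omega)
  simp only [Bool.and_eq_true, List.all_eq_true] at h
  refine Fi22.injective (Equiv.ext fun k => Fin.ext ?_)
  rw [Fi22U6.π_g x (by omega), π_tp_word (ptWords.getD x []) (fun y hy => Nat.le_of_ble_eq_true (h.1.1 y hy))
    (pt x) (Nat.eq_of_beq_eq_true h.1.2)]
  refine (Nat.eq_of_beq_eq_true ?_).symm
  rcases Nat.lt_or_ge (k : ℕ) 1755 with hk | hk
  · exact allFrom_spec _ _ _ (allFrom_spec _ _ _ gen_cols_0 k (Nat.zero_le _) (by omega)) x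
      (Nat.zero_le _) (by omega)
  · exact allFrom_spec _ _ _ (allFrom_spec _ _ _ gen_cols_1755 k hk (by have := k.2; omega)) x
      (Nat.zero_le _) (by omega)

theorem adj_o (n : ℕ) (hn : n < 3510) (h : Nat.beq (act Fi22.table 0 n) n = true) (hne : n ≠ 0)
    (M : PointMap D d f) : f ⟨n, hn⟩ ∈ link D (f o) :=
  ⟨(M.mem _).1, fun he => hne (congrArg Fin.val (M.inj he)),
    (commute_o_iff M ⟨n, hn⟩).2 (Nat.eq_of_beq_eq_true h)⟩

/-- The word of `q₀`. -/
def qWord : List ℕ := [1]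

theorem adj_q (n : ℕ) (hn : n < 3510) (M : PointMap D d f) :
    Commute (f q₀) (f ⟨n, hn⟩) ↔ tScan qWord n = n :=
  commute_word_iff M qWord (by decide) q₀ ⟨n, hn⟩
    (Nat.eq_of_beq_eq_true (show Nat.beq (scan Fi22.table qWord 0) 1 = true by decide +kernel))

theorem o_q₀ (M : PointMap D d f) : ¬ Commute (f o) (f q₀) := fun h =>
  absurd ((commute_o_iff M q₀).1 h) (fun he => by
    have h2 : Nat.beq (act Fi22.table 0 1) 1 = false := by decide +kernel
    rw [show act Fi22.table 0 1 = 1 from he] at h2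
    exact Bool.noConfusion h2)

theorem lab_nonadj : allFrom (fun k => Nat.beq k 0 || Nat.beq (act Fi22.table 0 k) k ||
    Nat.beq (Fi22.lab.get 20 k) (Fi22.lab.get 20 1)) 3510 0 = true := by decide +kernel

/-- Two non-commuting members that commute with a third map to the base pair. -/
theorem transport (M : PointMap D d f) {c x : G} (hd : d ∈ D) (hc : c ∈ D) (hdc : ¬ Commute d c)
    (hx : x ∈ link D d) (hxc : x ∈ link D c) :
    ∃ h : G, h * x * h⁻¹ = d ∧ h * d * h⁻¹ = f o ∧ h * c * h⁻¹ = f q₀ := by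
  obtain ⟨h, hh⟩ := CfsgLib.ThreeTransp.class_conj M.cls hx.1 hd
  have hdx : d ∈ link D x := ⟨hd, hx.2.1.symm, hx.2.2.symm⟩
  have hcx : c ∈ link D x := ⟨hc, hxc.2.1.symm, hxc.2.2.symm⟩
  obtain ⟨p, hp⟩ := M.surj _ (hh ▸ link_conj_mem M.cls h hdx)
  obtain ⟨q, hq⟩ := M.surj _ (hh ▸ link_conj_mem M.cls h hcx)
  obtain ⟨w, hw⟩ := exists_rep p
  obtain ⟨k, hk, hkf⟩ := M.lift w⁻¹
  have hwp : Fi22.π w⁻¹ p = o := by rw [map_inv, ← hw]; exact Equiv.symm_apply_apply _ _
  set q' := Fi22.π w⁻¹ q with hq'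
  have hnc : ¬ Commute (f o) (f q') := by
    rw [← hwp, ← hkf, ← hkf, commute_conj_iff', hp, hq, commute_conj_iff']
    exact hdc
  have h0 : (q' : ℕ) ≠ 0 := fun he => hnc (by
    rw [show q' = o from Fin.ext he])
  have h1 := allFrom_spec _ _ _ lab_nonadj q' (Nat.zero_le _) (by have := q'.2; omega)
  simp only [Bool.or_eq_true] at h1
  have hlab : Fi22.lab.get 20 q' = Fi22.lab.get 20 1 := by
    rcases h1 with (h1 | h1) | h1
    · exact absurd (Nat.eq_of_beq_eq_true h1) h0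
    · exact absurd ((commute_o_iff M q').2 (Nat.eq_of_beq_eq_true h1)) hnc
    · exact Nat.eq_of_beq_eq_true h1
  have horb := orbit_class Fi22.π Fi22.H Fi22.subTable Fi22.sub_spec.1 Fi22.sub_spec.2 Fi22.lab
    Fi22.orbPar Fi22.root Fi22.orbit_ok q₀ 1 (show Nat.beq (Fi22.lab.get 20 1) 1 = true by decide +kernel)
    (show Nat.beq (Fi22.root.get 20 1) 1 = true by decide +kernel)
  obtain ⟨u, hu, huq⟩ : q' ∈ {k | ∃ u ∈ Fi22.H, Fi22.π u q₀ = k} := by
    rw [horb]
    exact hlab.trans (Nat.eq_of_beq_eq_true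
      (show Nat.beq (Fi22.lab.get 20 1) 1 = true by decide +kernel))
  obtain ⟨m, hm, hmf⟩ := M.lift u⁻¹
  have huo : Fi22.π u⁻¹ o = o := Fi22.sub_fix (by omega) _ (inv_mem hu)
  refine ⟨m * k * h, ?_, ?_, ?_⟩
  · rw [← conj_conj_eq, ← conj_conj_eq, hh, hk, hm]
  · rw [← conj_conj_eq, ← conj_conj_eq, ← hp, hkf, hwp, hmf, huo]
  · rw [← conj_conj_eq, ← conj_conj_eq, ← hq, hkf, ← hq', hmf, ← huq, map_inv]
    exact congrArg f (Equiv.symm_apply_apply _ _)

/-- No link lies in the link of a non-commuting member. -/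
theorem link_not_subset (M : PointMap D d f) {c : G} (hd : d ∈ D) (hc : c ∈ D) (hdc : ¬ Commute d c) :
    ¬ link D d ⊆ link D c := by
  intro hsub
  obtain ⟨h, hx, hh, hhc⟩ := transport M hd hc hdc (M.mem o) (hsub (M.mem o))
  have h6 : f ⟨6, by omega⟩ ∈ link D (f o) := adj_o 6 _ (by decide +kernel) (by omega) M
  have h6d := M.mem ⟨6, by omega⟩
  rw [← hh] at h6
  set u := h⁻¹ * f ⟨6, by omega⟩ * h with hu
  have e : h * u * h⁻¹ = f ⟨6, by omega⟩ := by rw [hu]; group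
  rw [← e] at h6
  have hud : u ∈ link D d := (mem_link_conj_iff M.cls h d u).1 h6
  have h3 := link_conj_mem M.cls h (hsub hud)
  rw [hhc, e] at h3
  have h4 := (adj_q 6 (by omega) M).1 h3.2.2
  have h5 : Nat.beq (tScan qWord 6) 6 = false := by decide +kernel
  rw [h4] at h5
  exact Bool.noConfusion h5

/-- The nine points do not all lie in the link of a non-commuting member. -/
theorem not_all (M : PointMap D d f) (hd : d ∈ D) :
    ∀ c ∈ D, ¬ Commute d c → ¬ ∀ a ∈ pts, InT D f c a := by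
  intro c hc hdc hall
  have hgen : ∀ x : Fin 9, ∀ y, f y ∈ link D c → f (Fi22.π (Fi22.g x) y) ∈ link D c := by
    intro x y hy
    obtain ⟨_, hx⟩ := hall (pts.getD x 0) ((by decide : ∀ z : Fin 9, pts.getD z 0 ∈ pts) x)
    rw [gen_eq, ← M.conj]
    have h1 := link_conj_mem M.cls (f (pt x)) hy
    rwa [conj_self_of_commute (show Commute (f (pt x)) c from hx.2.2.symm)] at h1
  have key : ∀ w : Cfsg.Spor.Fi22, ∀ y, f y ∈ link D c → f (Fi22.π w y) ∈ link D c := by
    intro w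
    have hw : w ∈ Subgroup.closure (Fi22.g '' Set.Iio 16) :=
      Fi22.translation.closure_top trivial
    have hg : ∀ n < 16, ∀ y, f y ∈ link D c → f (Fi22.π (Fi22.g n) y) ∈ link D c := by
      intro n hn y hy
      rcases Fi22.gen_or_one n hn with h | h
      · exact hgen ⟨n, h⟩ y hy
      · rw [h, map_one]; exact hy
    induction hw using Subgroup.closure_induction'' with
    | mem z hz =>
      obtain ⟨n, hn, rfl⟩ := hz
      exact hg n hn
    | inv_mem z hz =>
      obtain ⟨n, hn, rfl⟩ := hz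
      rw [Fi22U6.g_inv n hn]
      exact hg n hn
    | one => intro y hy; rwa [map_one]
    | mul a b _ _ iha ihb =>
      intro y hy
      rw [map_mul, Equiv.Perm.mul_apply]
      exact iha _ (ihb y hy)
  refine link_not_subset M hd hc hdc fun v hv => ?_
  obtain ⟨p, rfl⟩ := M.surj v hv
  obtain ⟨w, rfl⟩ := exists_rep p
  obtain ⟨_, ho⟩ := hall 0 (by decide)
  exact key w o ho

theorem base_config : allFrom (fun i => Nat.blt (SN.getD i 0) 3510 && !(Nat.beq (SN.getD i 0) 0) &&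
    Nat.beq (act Fi22.table 0 (SN.getD i 0)) (SN.getD i 0) && !(Nat.beq (SN.getD i 0) 1) &&
    Nat.beq (tScan qWord (SN.getD i 0)) (SN.getD i 0)) 9 0 = true := by decide +kernel

/-- Configurations exist at every member of a common link. -/
theorem exists_st (M : PointMap D d f) (hd : d ∈ D) {c x : G} (hc : c ∈ D) (hdc : ¬ Commute d c)
    (hx : x ∈ link D d) (hxc : x ∈ link D c) :
    ∃ g : G, g * d * g⁻¹ = d ∧ g * x * g⁻¹ = f o ∧ St D d f [] (g * c * g⁻¹) := by
  obtain ⟨h, hhx, hhd, hhc⟩ := transport M hd hc hdc hx hxc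
  obtain ⟨p, hp⟩ := M.surj x hx
  obtain ⟨w, hw⟩ := exists_rep p
  obtain ⟨g, hgd, hgf⟩ := M.lift w⁻¹
  have hgx : g * x * g⁻¹ = f o := by
    rw [← hp, hgf, map_inv, ← hw]
    exact congrArg f (Equiv.symm_apply_apply _ _)
  refine ⟨g, hgd, hgx, CfsgLib.ThreeTransp.class_conj_mem M.cls g hc, fun hcm => hdc ?_,
    hgx ▸ link_conj_mem M.cls g hxc, g * h⁻¹, fun a ha => ?_, fun i hi => by simp at hi⟩
  · exact (commute_conj_iff' g d c).1 (by rwa [hgd])
  · obtain ⟨i, hi, rfl⟩ := List.getElem_of_mem ha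
    have hb := allFrom_spec _ _ _ base_config i (Nat.zero_le _) (by
      have : SN.length = 9 := rfl; omega)
    rw [List.getD_eq_getElem _ _ hi] at hb
    simp only [Bool.and_eq_true, Bool.not_eq_true'] at hb
    obtain ⟨⟨⟨⟨hlt, h0⟩, hadj⟩, h1⟩, hq⟩ := hb
    set n := SN[i] with hn
    have hlt' : n < 3510 := Nat.le_of_ble_eq_true hlt
    have hno : f ⟨n, hlt'⟩ ∈ link D (f o) :=
      adj_o n hlt' hadj (fun he => by rw [he] at h0; exact Bool.noConfusion h0) M
    have hnq : f ⟨n, hlt'⟩ ∈ link D (f q₀) := ⟨(M.mem _).1,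
      fun he => by
        rw [show n = 1 from congrArg Fin.val (M.inj he)] at h1
        exact Bool.noConfusion h1,
      (adj_q n hlt' M).2 (Nat.eq_of_beq_eq_true hq)⟩
    have hnd := M.mem ⟨n, hlt'⟩
    set v := h⁻¹ * f ⟨n, hlt'⟩ * h with hv
    have e : h * v * h⁻¹ = f ⟨n, hlt'⟩ := by rw [hv]; group
    rw [← hhd, ← e] at hno
    rw [← hhc, ← e] at hnq
    rw [← hhx, ← e] at hnd
    have hvd := (mem_link_conj_iff M.cls h d v).1 hno
    have hvc := (mem_link_conj_iff M.cls h c v).1 hnq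
    have hvx := (mem_link_conj_iff M.cls h x v).1 hnd
    obtain ⟨b, hb⟩ := M.surj _ (hgd ▸ link_conj_mem M.cls g hvd)
    refine ⟨b, ⟨hlt', b.2, ?_⟩, ⟨b.2, ?_⟩, b.2, ?_⟩
    · show _ = f b
      rw [hb, hv]; group
    · show f b ∈ _
      rw [hb]; exact link_conj_mem M.cls g hvc
    · show f b ∈ _
      rw [hb, ← hgx]; exact link_conj_mem M.cls g hvx

theorem nn_config : allFrom (fun i => Nat.blt (SN.getD i 0) 3510 &&
    !(Nat.beq (tScan [1, 2, 3, 4, 7, 3, 2, 1, 8, 7, 3, 2, 4, 3, 5, 6] (SN.getD i 0)) (SN.getD i 0))) 3 6 = true ∧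
    Nat.beq (scan Fi22.table [1, 2, 3, 4, 7, 3, 2, 1, 8, 7, 3, 2, 4, 3, 5, 6] 0) 502 = true :=
  ⟨by decide +kernel, by decide +kernel⟩

/-- Eight generator points in the link of some non-commuting member. -/
theorem exists_good (M : PointMap D d f) (hd : d ∈ D) {c x : G} (hc : c ∈ D) (hdc : ¬ Commute d c)
    (hx : x ∈ link D d) (hxc : x ∈ link D c) : Good D d f := by
  have hN := N0.result M (not_all M hd)
    (fun j hj => (Fi22.sub_spec.1 j hj).imp fun z hz => ⟨trivial, hz.2⟩)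
  obtain ⟨g, hgd, hgx, hst⟩ := exists_st M hd hc hdc hx hxc
  obtain ⟨-, -, -, k, hk, -⟩ := id hst
  obtain ⟨b, ⟨_, hb1, hb2⟩, ⟨_, hbc⟩, _, -⟩ := hk 502 (by decide)
  set c' := g * c * g⁻¹
  obtain ⟨g', hg'd, hg'x, hst'⟩ := exists_st M hd hst.1 hst.2.1 (M.mem ⟨b, hb1⟩) hbc
  rcases hN _ hst' with h | ⟨b₁, b₂, hbad⟩
  · exact h
  exfalso
  have key : ∀ i, 6 ≤ i → i < 9 → ∃ (h : SN.getD i 0 < 3510) (y : Fin 3510),
      f y = g' * (k * f ⟨_, h⟩ * k⁻¹) * g'⁻¹ ∧ (y = b₁ ∨ y = b₂) := by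
    intro i hi1 hi2
    have hmem : SN.getD i 0 ∈ SN := by
      rw [List.getD_eq_getElem _ _ (show i < SN.length from hi2)]
      exact List.getElem_mem _
    obtain ⟨a, ⟨ha0, ha1, ha⟩, ⟨_, hac⟩, _, -⟩ := hk _ hmem
    obtain ⟨y, hy⟩ := M.surj _ (hg'd ▸ link_conj_mem M.cls g' (M.mem ⟨a, ha1⟩))
    refine ⟨ha0, y, hy.trans (by rw [← ha]), hbad y (hy ▸ link_conj_mem M.cls g' hac) ?_⟩
    rw [hy, ← hg'x, commute_conj_iff', ← ha, ← hb2, commute_conj_iff']
    have h := nn_config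
    have h2 := allFrom_spec _ _ _ h.1 i hi1 (by omega)
    simp only [Bool.and_eq_true, Bool.not_eq_true'] at h2
    rw [commute_word_iff M [1, 2, 3, 4, 7, 3, 2, 1, 8, 7, 3, 2, 4, 3, 5, 6] (by decide)
      ⟨502, by omega⟩ _ (Nat.eq_of_beq_eq_true h.2)]
    intro he
    rw [show tScan _ (SN.getD i 0) = SN.getD i 0 from he, Nat.beq_refl] at h2
    exact Bool.noConfusion h2.2
  obtain ⟨h6, y6, e6, o6⟩ := key 6 le_rfl (by omega)
  obtain ⟨h7, y7, e7, o7⟩ := key 7 (by omega) (by omega)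
  obtain ⟨h8, y8, e8, o8⟩ := key 8 (by omega) (by omega)
  have inj : ∀ {a b : Fin 3510} {u v : Fin 3510}, f u = g' * (k * f a * k⁻¹) * g'⁻¹ →
      f v = g' * (k * f b * k⁻¹) * g'⁻¹ → u = v → a = b := by
    intro a b u v e1 e2 he
    rw [he, e2, mul_left_inj, mul_right_inj, mul_left_inj, mul_right_inj] at e1
    exact (M.inj e1).symm
  rcases o6 with o6 | o6 <;> rcases o7 with o7 | o7 <;> rcases o8 with o8 | o8 <;>
    first
    | exact absurd (congrArg Fin.val (inj e6 e7 (o6.trans o7.symm))) (show (16 : ℕ) ≠ 26 by omega)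
    | exact absurd (congrArg Fin.val (inj e6 e8 (o6.trans o8.symm))) (show (16 : ℕ) ≠ 40 by omega)
    | exact absurd (congrArg Fin.val (inj e7 e8 (o7.trans o8.symm))) (show (26 : ℕ) ≠ 40 by omega)

end CfsgLib.FischerM23
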