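import Cfsg.Agent.Lib.FischerM23.Config
import Cfsg.Agent.Lib.FischerType.Unique
import Cfsg.Agent.Lib.FischerType.M22
import Cfsg.Agent.Lib.FischerCent.Levels
import Cfsg.Prelude.Def_Spor_Fi23

/-!
From a model of the link quotient to an isomorphism with `Fi23`.
-/

set_option autoImplicit false

namespace CfsgLib.FischerM23

open Subgroup
open CfsgLib.CosetEnum
open CfsgLib.ThreeTrans (link conj_self_of_commute)
open CfsgLib.FischerType

variable {G : Type*} [Group G] [Finite G] {D : Set G} {d : G}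

/-- The labelling of a link by points, from an isomorphism of its quotient with `Fi22`. -/
theorem exists_pointMap (S : Setting D) (hd : d ∈ D)
    (hpair : ∃ u ∈ link D d, ∃ v ∈ link D d, ¬ Commute u v) (SX : Setting (img D d))
    (hX : CfsgLib.FischerType.Good (img D d)) (e : Quot D d ≃* Cfsg.Spor.Fi22) :
    ∃ f : Fin 3510 → G, PointMap D d f ∧
      ∀ p, ∃ h : f p ∈ link D d, e (toImg D d h) = tp p := by
  have hn := S.noCentral hd hpair
  have himg : e.symm '' conjugatesOf Fi22U6.z = img D d :=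
    SX.eq_class hX (class_image e.symm Fi22U6.threeClass)
  have hex : ∀ p, ∃ w : G, ∃ h : w ∈ link D d, e (toImg D d h) = tp p := by
    intro p
    obtain ⟨w, hw, he⟩ := exists_toImg (show e.symm (tp p) ∈ img D d from himg ▸ ⟨_, tp_mem p, rfl⟩)
    exact ⟨w, hw, by rw [he, MulEquiv.apply_symm_apply]⟩
  choose f hf hfe using hex
  refine ⟨f, ?_, fun p => ⟨hf p, hfe p⟩⟩
  have huniq : ∀ {w : G} (hw : w ∈ link D d) (p : Fin 3510), e (toImg D d hw) = tp p → w = f p :=
    fun hw p h => eq_of_toImg S.cls.1 hn hw (hf p) (e.injective (h.trans (hfe p).symm))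
  have hlift : ∀ w, ∃ g : G, g * d * g⁻¹ = d ∧ ∀ p, g * f p * g⁻¹ = f (Fi22.π w p) := by
    intro w
    obtain ⟨⟨k, hk⟩, hkw⟩ := QuotientGroup.mk_surjective (e.symm w)
    have hkd : k * d * k⁻¹ = d := by
      refine conj_self_of_commute (mem_centralizer_singleton_iff.1 ?_)
      exact ((closure_le _).2 fun x hx => mem_centralizer_singleton_iff.2 hx.2.2.eq.symm :
        closure (link D d) ≤ centralizer {d}) hk
    refine ⟨k, hkd, fun p => ?_⟩
    have hmem : k * f p * k⁻¹ ∈ link D d := hkd ▸ link_conj_mem S.cls k (hf p)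
    refine huniq hmem _ ?_
    have e1 : toImg D d hmem = e.symm w * toImg D d (hf p) * (e.symm w)⁻¹ := by
      rw [← hkw, ← QuotientGroup.mk_inv, ← QuotientGroup.mk_mul, ← QuotientGroup.mk_mul]
      rfl
    rw [e1, map_mul, map_mul, map_inv, MulEquiv.apply_symm_apply, hfe, tp_smul]
  refine ⟨S.cls, hf, fun x hx => ?_, fun p q hpq => ?_, fun p q => ?_, hlift⟩
  · obtain ⟨u, hu, he⟩ := (himg.symm ▸ toImg_mem hx : toImg D d hx ∈ e.symm '' _)
    obtain ⟨p, rfl⟩ := mem_conjugates u hu
    exact ⟨p, (huniq hx p (by rw [← he, MulEquiv.apply_symm_apply])).symm⟩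
  · refine tp_injective ?_
    rw [← hfe p, ← hfe q]
    congr 1
    exact congrArg QuotientGroup.mk (Subtype.ext hpq)
  · have hmem : f p * f q * (f p)⁻¹ ∈ link D d := by
      have h1 := link_conj_mem S.cls (f p) (hf q)
      rwa [conj_self_of_commute (hf p).2.2.symm] at h1
    refine huniq hmem _ ?_
    have e1 : toImg D d hmem = toImg D d (hf p) * toImg D d (hf q) * (toImg D d (hf p))⁻¹ := by
      rw [← QuotientGroup.mk_inv, ← QuotientGroup.mk_mul, ← QuotientGroup.mk_mul]
      rfl
    rw [e1, map_mul, map_mul, map_inv, hfe, hfe, conj_tp]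

/-- The flip of the diagram. -/
def flip9 : Fin 9 → Fin 9 := ![6, 5, 4, 3, 2, 1, 0, 7, 8]

/-- The letters of the nine generators of `Fi22` among those of `Fi23`. -/
def nine : Cfsg.Spor.Fi23.Gen → Option (Fin 9)
  | .a => some 0
  | .b => some 1
  | .c => some 2
  | .d => some 3
  | .e => some 4
  | .f => some 5
  | .g => some 6
  | .j => none
  | .h => some 7
  | .i => some 8

/-- Adjacency in the diagram of the nine generators. -/
def adj9 (x y : ℕ) : Bool :=
  (Nat.beq (x + 1) y || Nat.beq (y + 1) x) && !(Nat.beq (x + y) 13) && !(Nat.beq (x + y) 15) ||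
    (Nat.beq (x + y) 10 && (Nat.beq x 3 || Nat.beq y 3)) || Nat.beq (x + y) 15

theorem label_nine (flip : Bool) :
    allFrom (fun x => allFrom (fun y => Nat.beq x y ||
      (Nat.beq (tScan (ptWords.getD (if flip then ([6, 5, 4, 3, 2, 1, 0, 7, 8] : List ℕ).getD x 0 else x) [])
          (pts.getD (if flip then ([6, 5, 4, 3, 2, 1, 0, 7, 8] : List ℕ).getD y 0 else y) 0))
          (pts.getD (if flip then ([6, 5, 4, 3, 2, 1, 0, 7, 8] : List ℕ).getD y 0 else y) 0) ==
        !adj9 x y)) 9 0) 9 0 = true := by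
  cases flip <;> decide +kernel

/-- Adjacency in the diagram of the ten generators. -/
def adj10 (a b : Cfsg.Spor.Fi23.Gen) : Bool :=
  match nine a, nine b with
  | some x, some y => adj9 x y
  | none, some y => Nat.beq (y : ℕ) 6
  | some x, none => Nat.beq (x : ℕ) 6
  | none, none => false

theorem label_eq (a b : Cfsg.Spor.Fi23.Gen) :
    Cfsg.Spor.coxLabel Cfsg.Spor.Fi23.edges a b =
      if a = b then 1 else if adj10 a b = true then 3 else 2 := by
  cases a <;> cases b <;> decide +kernel

theorem nine_injective : ∀ a b x, nine a = some x → nine b = some x → a = b := by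
  intro a b x ha hb
  rw [← ha] at hb
  cases a <;> cases b <;> first | rfl | exact absurd hb (by decide)

theorem eq_j_of_nine : ∀ a, nine a = none → a = .j := by
  intro a h
  cases a <;> first | rfl | exact absurd h (by decide)

theorem exists_nine (x : Fin 9) : ∃ a, nine a = some x := by
  fin_cases x <;> first
    | exact ⟨.a, rfl⟩ | exact ⟨.b, rfl⟩ | exact ⟨.c, rfl⟩ | exact ⟨.d, rfl⟩ | exact ⟨.e, rfl⟩
    | exact ⟨.f, rfl⟩ | exact ⟨.g, rfl⟩ | exact ⟨.h, rfl⟩ | exact ⟨.i, rfl⟩

theorem spider (flip : Bool) :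
    allFrom (fun k => Nat.beq (scan Fi22.table (List.replicate 10 ((([3, 2, 1, 3, 4, 5, 3, 7, 8] :
      List ℕ).map fun x => if flip then ([6, 5, 4, 3, 2, 1, 0, 7, 8] : List ℕ).getD x 0 else x).reverse)).flatten k) k)
      3510 0 = true := by
  cases flip <;> decide +kernel

theorem seven (flip : Bool) :
    allFrom (fun k => Nat.beq (scan Fi22.table (List.replicate 9 ((([0, 1, 2, 3, 4, 5, 7] :
      List ℕ).map fun x => if flip then ([6, 5, 4, 3, 2, 1, 0, 7, 8] : List ℕ).getD x 0 else x).reverse)).flatten k) k)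
      3510 0 = true := by
  cases flip <;> decide +kernel

/-- A word in the nine lifts that is trivial in the model and commutes with an outside member. -/
theorem word_eq_one (S : Setting D) (hl : HasLines D) (hd : d ∈ D) {c : G} (hdc : ¬ Commute d c)
    (e : Quot D d ≃* Cfsg.Spor.Fi22) {f : Fin 3510 → G} (hf : ∀ p, ∃ h : f p ∈ link D d, e (toImg D d h) = tp p)
    (l : List (Fin 9)) (n : ℕ)
    (h : allFrom (fun k => Nat.beq (scan Fi22.table (List.replicate n ((l.map Fin.val).reverse)).flatten k) k)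
      3510 0 = true)
    (hc : ∀ x ∈ l, Commute (f (pt x)) c) : (l.map fun x => f (pt x)).prod ^ n = 1 := by
  let F : Fin 9 → ↥(closure (link D d)) := fun x => ⟨f (pt x), subset_closure (hf (pt x)).1⟩
  have hval : (((l.map F).prod ^ n : ↥(closure (link D d))) : G) = (l.map fun x => f (pt x)).prod ^ n := by
    rw [SubmonoidClass.coe_pow, Subgroup.val_list_prod, List.map_map]
    rfl
  have himg : e (QuotientGroup.mk' (center ↥(closure (link D d))) ((l.map F).prod ^ n)) = 1 := by
    rw [map_pow, map_pow, map_list_prod, map_list_prod, List.map_map, List.map_map]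
    have hcong : (l.map ((⇑e ∘ ⇑(QuotientGroup.mk' (center ↥(closure (link D d))))) ∘ F)) =
        (l.map Fin.val).map Fi22.g := by
      rw [List.map_map]
      refine List.map_congr_left fun x _ => ?_
      obtain ⟨h1, h2⟩ := hf (pt x)
      simp only [Function.comp_apply, gen_eq]
      exact h2
    rw [hcong]
    have h16 : ∀ x ∈ (List.replicate n (l.map Fin.val)).flatten, x < 16 := by
      intro x hx
      obtain ⟨m, hm, hxm⟩ := List.mem_flatten.1 hx
      rw [List.eq_of_mem_replicate hm] at hxm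
      obtain ⟨y, -, rfl⟩ := List.mem_map.1 hxm
      omega
    refine Fi22.injective (Equiv.ext fun k => Fin.ext ?_)
    rw [show ((l.map Fin.val).map Fi22.g).prod ^ n =
      ((List.replicate n (l.map Fin.val)).flatten.map Fi22.g).prod by
        rw [List.map_flatten, List.map_replicate, List.prod_flatten, List.map_replicate, List.prod_replicate],
      Fi22U6.π_word _ h16, List.reverse_flatten, List.map_replicate, List.reverse_replicate, map_one]
    exact Nat.eq_of_beq_eq_true (allFrom_spec _ _ _ h k (Nat.zero_le _) (by have := k.2; omega))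
  have hz : (l.map F).prod ^ n ∈ center ↥(closure (link D d)) := by
    rw [← QuotientGroup.eq_one_iff]
    exact e.injective (himg.trans (map_one e).symm)
  rcases CfsgLib.FischerUnique.center_link_le S hl hd (hf o).1 hz with h1 | h1
  · rw [← hval]; exact h1
  · exfalso
    refine hdc ?_
    rw [← h1, hval]
    refine (Commute.pow_left ?_ n)
    have : ∀ l : List (Fin 9), (∀ x ∈ l, Commute (f (pt x)) c) → Commute (l.map fun x => f (pt x)).prod c := by
      intro l
      induction l with
      | nil => intro _; exact Commute.one_left c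
      | cons x r ih =>
        intro hr
        rw [List.map_cons, List.prod_cons]
        exact (hr x (by simp)).mul_left (ih fun y hy => hr y (List.mem_cons_of_mem _ hy))
    exact this l hc

/-- The isomorphism with `Fi23`, given a model of one link quotient. -/
theorem exists_iso_of_quot (S : Setting D) (h : Cfsg.IsOfTypeM23 G D) (hd : d ∈ D)
    {c : G} (hc : c ∈ D) (hdc : ¬ Commute d c) (hT : (link D d ∩ link D c).Nonempty)
    (hpair : ∃ u ∈ link D d, ∃ v ∈ link D d, ¬ Commute u v) (SX : Setting (img D d))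
    (hX : CfsgLib.FischerType.Good (img D d)) (e : Quot D d ≃* Cfsg.Spor.Fi22) [IsSimpleGroup Cfsg.Spor.Fi23]
    {C : Set Cfsg.Spor.Fi23} (hC : Cfsg.IsThreeTranspositionClass C) :
    ∃ ψ : G ≃* Cfsg.Spor.Fi23, ψ '' D = C := by
  obtain ⟨f, M, hf⟩ := exists_pointMap S hd hpair SX hX e
  have hl := (S.good_of_typeM23 h).lines
  obtain ⟨x, hx, hxc⟩ := hT
  obtain ⟨j, hj, hdj, K, hK, hKj⟩ := exists_good M hd hc hdc hx hxc
  obtain ⟨flip, hflip⟩ : ∃ flip : Bool, ∀ x : Fin 9, x ≠ 6 →
      pts.getD ((if flip then flip9 x else x : Fin 9) : ℕ) 0 ∈ K := by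
    rcases List.mem_cons.1 hK with rfl | h1
    · exact ⟨false, by decide⟩
    · obtain rfl := List.mem_singleton.1 h1
      exact ⟨true, by decide⟩
  set ρ : Fin 9 → Fin 9 := fun x => if flip then flip9 x else x with hρ
  have hρv : ∀ x : Fin 9, ((ρ x : Fin 9) : ℕ) =
      (if flip then ([6, 5, 4, 3, 2, 1, 0, 7, 8] : List ℕ).getD x 0 else (x : ℕ)) := by
    intro x; cases flip <;> revert x <;> decide
  set u : Fin 9 → G := fun x => f (pt (ρ x)) with hu
  have huD : ∀ x, u x ∈ D := fun x => (M.mem _).1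
  have hj8 : ∀ x, x ≠ 6 → Commute (u x) j := by
    intro x hx6
    obtain ⟨_, h1⟩ := hKj _ (hflip x hx6)
    exact h1.2.2.symm
  have hj6 : ¬ Commute (u 6) j := by
    intro h6
    refine not_all M hd j hj hdj fun a ha => ?_
    obtain ⟨y, hy, rfl⟩ := List.getElem_of_mem ha
    obtain ⟨x, hxy⟩ : ∃ x, ρ x = ⟨y, hy⟩ :=
      ⟨ρ ⟨y, hy⟩, by
        have hs : ∀ z : Fin 9, flip9 (flip9 z) = z := by decide
        simp only [hρ]; cases flip <;> simp [hs]⟩
    have hxj : Commute (u x) j := if h : x = 6 then h ▸ h6 else hj8 x h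
    have he : (pts[y] : ℕ) = ((pt (ρ x) : Fin 3510) : ℕ) := by
      rw [hxy]; exact (List.getD_eq_getElem pts 0 hy).symm
    rw [he]
    exact ⟨(pt (ρ x)).2, (huD x), fun h0 => hdj (h0 ▸ (M.mem _).2.2), hxj.symm⟩
  let img' : Cfsg.Spor.Fi23.Gen → G := fun a => match nine a with
    | some x => u x
    | none => j
  have hmem : ∀ a, img' a ∈ D := by
    intro a; cases a <;> first | exact huD _ | exact hj
  have hnine : ∀ x y : Fin 9, x ≠ y → (Commute (u x) (u y) ↔
      adj9 x y = false) := by
    intro x y hxy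
    have h1 := allFrom_spec _ _ _ (allFrom_spec _ _ _ (label_nine flip) x (Nat.zero_le _) (by omega)) y
      (Nat.zero_le _) (by omega)
    rw [← hρv x, ← hρv y] at h1
    have hne : Nat.beq (x : ℕ) (y : ℕ) = false := by
      rw [Bool.eq_false_iff]; exact fun he => hxy (Fin.ext (Nat.eq_of_beq_eq_true he))
    rw [hne, Bool.false_or, beq_iff_eq] at h1
    have hw := allFrom_spec _ _ _ gen_words (ρ x) (Nat.zero_le _) (by omega)
    simp only [Bool.and_eq_true] at hw
    show Commute (f (pt (ρ x))) (f (pt (ρ y))) ↔ _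
    rw [commute_word_iff M _ hw.1.1 (pt (ρ x)) (pt (ρ y)) (Nat.eq_of_beq_eq_true hw.1.2)]
    constructor
    · intro he
      rw [show (tScan (ptWords.getD (ρ x) []) (pts.getD (ρ y) 0)) = pts.getD (ρ y) 0 from he,
        Nat.beq_refl] at h1
      simpa using h1.symm
    · intro he
      refine Nat.eq_of_beq_eq_true (h1.trans ?_)
      simpa using he
  have hset := S.cls.1
  have h2 : ∀ a, img' a * img' a = 1 := fun a => CfsgLib.ThreeTrans.mul_self hset (hmem a)
  have hcox : ∀ a b : Cfsg.Spor.Fi23.Gen,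
      (img' a * img' b) ^ Cfsg.Spor.coxLabel Cfsg.Spor.Fi23.edges a b = 1 := by
    have hcom : ∀ a b, Commute (img' a) (img' b) → (img' a * img' b) ^ 2 = 1 := fun a b hab => by
      rw [hab.mul_pow, pow_two, pow_two, h2, h2, one_mul]
    have hcub : ∀ a b, ¬ Commute (img' a) (img' b) → (img' a * img' b) ^ 3 = 1 :=
      fun a b hab => CfsgLib.ThreeTrans.cube_eq_one hset (hmem a) (hmem b) hab
    intro a b
    rw [label_eq]
    split_ifs with hab hadj
    · subst hab; rw [pow_one]; exact h2 a
    · refine hcub a b fun hc => ?_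
      revert hadj hc
      simp only [adj10, img']
      rcases ha : nine a with _ | x <;> rcases hb : nine b with _ | y <;> intro hadj hc
      · exact Bool.noConfusion hadj
      · obtain rfl : y = 6 := Fin.ext (Nat.eq_of_beq_eq_true hadj)
        exact hj6 hc.symm
      · obtain rfl : x = 6 := Fin.ext (Nat.eq_of_beq_eq_true hadj)
        exact hj6 hc
      · have hxy : x ≠ y := fun he => hab (nine_injective a b x ha (he ▸ hb))
        exact Bool.noConfusion (((hnine x y hxy).1 hc).symm.trans hadj)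
    · refine hcom a b ?_
      revert hadj
      simp only [adj10, img']
      rcases ha : nine a with _ | x <;> rcases hb : nine b with _ | y <;> intro hadj
      · exact absurd ((eq_j_of_nine a ha).trans (eq_j_of_nine b hb).symm) hab
      · exact (hj8 y fun he => hadj (by rw [he]; rfl)).symm
      · exact hj8 x fun he => hadj (by rw [he]; rfl)
      · exact (hnine x y fun he => hab (nine_injective a b x ha (he ▸ hb))).2 (Bool.eq_false_iff.2 hadj)
  have hword : ∀ (l : List (Fin 9)) (n : ℕ), (∀ x ∈ l, x ≠ 6) →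
      allFrom (fun k => Nat.beq (scan Fi22.table (List.replicate n (((l.map Fin.val).map fun x =>
        if flip then ([6, 5, 4, 3, 2, 1, 0, 7, 8] : List ℕ).getD x 0 else x).reverse)).flatten k) k)
        3510 0 = true → (l.map u).prod ^ n = 1 := by
    intro l n hl6 hscan
    have h1 := word_eq_one S hl hd hdj e hf (l.map ρ) n (by
      rw [show (l.map ρ).map Fin.val = (l.map Fin.val).map (fun x =>
        if flip then ([6, 5, 4, 3, 2, 1, 0, 7, 8] : List ℕ).getD x 0 else x) by
          rw [List.map_map, List.map_map]; exact List.map_congr_left fun x _ => hρv x]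
      exact hscan) (fun y hy => by
        obtain ⟨x, hx, rfl⟩ := List.mem_map.1 hy
        exact hj8 x (hl6 x hx))
    rwa [List.map_map] at h1
  have hrel : ∀ r ∈ Cfsg.Spor.coxRelators Cfsg.Spor.Fi23.edges ∪ {r | r ∈ Cfsg.Spor.Fi23.extra},
      FreeGroup.lift img' r = 1 := by
    rintro r (⟨a, -, b, -, rfl⟩ | hr)
    · rw [map_pow, map_mul, FreeGroup.lift_apply_of, FreeGroup.lift_apply_of]; exact hcox a b
    · simp only [Set.mem_ofPred_eq, Cfsg.Spor.Fi23.extra, List.mem_cons, List.not_mem_nil, or_false] at hr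
      rcases hr with rfl | rfl
      · have h1 := hword [3, 2, 1, 3, 4, 5, 3, 7, 8] 10 (by decide) (spider flip)
        simpa [img', nine, mul_assoc] using h1
      · have h1 := hword [0, 1, 2, 3, 4, 5, 7] 9 (by decide) (seven flip)
        simpa [img', nine, mul_assoc] using h1
  let φ : Cfsg.Spor.Fi23 →* G := PresentedGroup.toGroup hrel
  have hφ : ∀ a, φ (PresentedGroup.of a) = img' a := fun a => PresentedGroup.toGroup.of hrel
  have hinj : Function.Injective φ := by
    rw [← MonoidHom.ker_eq_bot_iff]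
    rcases (MonoidHom.normal_ker φ).eq_bot_or_eq_top with h1 | h1
    · exact h1
    · exfalso
      have : φ (PresentedGroup.of Cfsg.Spor.Fi23.Gen.j) = 1 := by
        rw [← MonoidHom.mem_ker, h1]; exact mem_top _
      rw [hφ] at this
      exact CfsgLib.ThreeTrans.ne_one hset hj this
  have hgenR : ∀ a, img' a ∈ φ.range := fun a => ⟨_, hφ a⟩
  have hptR : ∀ y : Fin 9, f (pt y) ∈ φ.range := by
    intro y
    obtain ⟨x, rfl⟩ : ∃ x, ρ x = y := ⟨ρ y, by
      have hs : ∀ z : Fin 9, flip9 (flip9 z) = z := by decide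
      simp only [hρ]; cases flip <;> simp [hs]⟩
    obtain ⟨a, ha⟩ := exists_nine x
    have h1 := hgenR a
    simp only [img', ha] at h1
    exact h1
  have hkey : ∀ w p, f p ∈ φ.range → f (Fi22.π w p) ∈ φ.range := by
    intro w
    have hw : w ∈ closure (Fi22.g '' Set.Iio 16) := Fi22.translation.closure_top trivial
    have hg : ∀ n < 16, ∀ p, f p ∈ φ.range → f (Fi22.π (Fi22.g n) p) ∈ φ.range := by
      intro n hn p hp
      rcases Fi22.gen_or_one n hn with h1 | h1
      · rw [show Fi22.g n = tp (pt ⟨n, h1⟩) from gen_eq ⟨n, h1⟩, ← M.conj]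
        exact mul_mem (mul_mem (hptR _) hp) (inv_mem (hptR _))
      · rw [h1, map_one]; exact hp
    induction hw using Subgroup.closure_induction'' with
    | mem z hz => obtain ⟨n, hn, rfl⟩ := hz; exact hg n hn
    | inv_mem z hz => obtain ⟨n, hn, rfl⟩ := hz; rw [Fi22U6.g_inv n hn]; exact hg n hn
    | one => intro p hp; rwa [map_one]
    | mul a b _ _ iha ihb =>
      intro p hp
      rw [map_mul, Equiv.Perm.mul_apply]
      exact iha _ (ihb p hp)
  have hlink : link D d ⊆ φ.range := by
    intro v hv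
    obtain ⟨p, rfl⟩ := M.surj v hv
    obtain ⟨w, rfl⟩ := exists_rep p
    exact hkey w o (hptR 0)
  have hdR : d ∈ φ.range := (closure_le _).2 hlink (CfsgLib.FischerCent.mem_closure_link_of_typeM23 S h hd)
  have hR : φ.range = ⊤ := by
    obtain ⟨v, hv⟩ : ∃ v, v ∈ link D d := ⟨x, hx⟩
    have hDsub : Cfsg.IsDSubgroup D φ.range := by
      refine le_antisymm ((closure_le _).2 fun y hy => hy.2) ?_
      rw [MonoidHom.range_eq_map, ← PresentedGroup.closure_range_of, MonoidHom.map_closure, closure_le]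
      rintro _ ⟨_, ⟨a, rfl⟩, rfl⟩
      exact Subgroup.subset_closure ⟨(hφ a).symm ▸ hmem a, Subgroup.subset_closure ⟨_, ⟨a, rfl⟩, rfl⟩⟩
    refine CfsgLib.ThreeTransp.eq_top_of_centralizer_lt S.cls S.prim
      (CfsgLib.ThreeTransp.commutingGraph_connected S.cls S.prim ⟨d, hd, v, hv.1, hv.2.1.symm, hv.2.2⟩)
      hDsub hd (fun y hy hdy => ?_) hj (hgenR Cfsg.Spor.Fi23.Gen.j) hdj
    by_cases hyd : y = d
    · exact hyd ▸ hdR
    · exact hlink ⟨hy, hyd, hdy⟩
  let ψ : G ≃* Cfsg.Spor.Fi23 :=
    (MulEquiv.ofBijective φ ⟨hinj, MonoidHom.range_eq_top.1 hR⟩).symm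
  refine ⟨ψ, ?_⟩
  have h1 : ψ.symm '' C = D :=
    S.eq_class (S.good_of_typeM23 h) (class_image ψ.symm hC)
  rw [← h1, Set.image_image]
  simp

end CfsgLib.FischerM23
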