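import Cfsg.Agent.Lib.FischerM23.Hom
import Cfsg.Agent.Lib.FischerUnique.Common
import Cfsg.Agent.Lib.FischerFi22.Iso
import Cfsg.Agent.Lib.CosetEnum.Fi23.ThreeTrans

/-!
A group of type M(23) is `Fi23`, the class going to the class of 31671 transpositions.
-/

set_option autoImplicit false

namespace CfsgLib.FischerM23

open Subgroup
open CfsgLib.CosetEnum
open CfsgLib.ThreeTrans (link)
open CfsgLib.FischerType

variable {G : Type*} [Group G] [Finite G] {D : Set G}

/-- A group of type M(23) is isomorphic to `Fi23`, any class of 3-transpositions of it corresponding. -/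
theorem exists_iso_class [IsSimpleGroup Cfsg.Spor.Fi23] {C : Set Cfsg.Spor.Fi23}
    (hC : Cfsg.IsThreeTranspositionClass C) (S : Setting D) (h : Cfsg.IsOfTypeM23 G D) :
    ∃ ψ : G ≃* Cfsg.Spor.Fi23, ψ '' D = C := by
  obtain ⟨-, d, hd, c, hc, hdc, h22, c₃, hc₃, hproj⟩ := id h
  have hns := not_solvable_of_isProj (by norm_num) hc₃ hproj
  have hT : (link D d ∩ link D c).Nonempty := by
    by_contra hne
    rw [Set.not_nonempty_iff_eq_empty] at hne
    refine hns ?_
    show Group.IsSolvable ↥(closure (link D d ∩ link D c))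
    rw [hne, Subgroup.closure_empty]
    exact Group.isSolvable_of_comm fun a b => Subsingleton.elim _ _
  have SX := CfsgLib.FischerUnique.imgSetting S hd hc hdc hns h22
  obtain ⟨e⟩ := CfsgLib.FischerFi22.nonempty_iso SX h22
  exact exists_iso_of_quot S h hd hc hdc hT (pair_of_typeM22_img h22) SX (SX.good_of_typeM22 h22) e hC

/-- A group of type M(23) is isomorphic to `Fi23`, its class going to the class of `z`. -/
theorem exists_iso (hD : Cfsg.IsThreeTranspositionGroup D) (hprim : Cfsg.IsPrimitiveUnderConj D)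
    (h : Cfsg.IsOfTypeM23 G D) :
    ∃ e : G ≃* Cfsg.Spor.Fi23, e '' D = (conjugatesOf Fi23.z : Set Cfsg.Spor.Fi23) :=
  haveI := Fi23.Simple.isSimple
  exists_iso_class Fi23.threeClass (setting_of_typeM23 hD hprim h) h

end CfsgLib.FischerM23
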