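import Cfsg.Agent.Lib.CosetEnum.Fi22U6.Cover

/-!
Points of the model of `Fi22` as transpositions.
-/

set_option autoImplicit false

namespace CfsgLib.FischerM23

open CfsgLib.CosetEnum
open Fi22U6 (z z_comm centralizer_z mem_of_fix π_word)

local notation "F22" => Cfsg.Spor.Fi22

/-- The base point. -/
def o : Fin 3510 := ⟨0, by omega⟩

theorem exists_rep (p : Fin 3510) : ∃ w : F22, Fi22.π w o = p := Fi22.transitive (by omega) p

/-- The transposition of a point. -/
noncomputable def tp (p : Fin 3510) : F22 :=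
  (exists_rep p).choose * z * (exists_rep p).choose⁻¹

theorem tp_eq (w : F22) {p : Fin 3510} (h : Fi22.π w o = p) : tp p = w * z * w⁻¹ := by
  set v := (exists_rep p).choose
  have hv : Fi22.π v o = p := (exists_rep p).choose_spec
  have hm : w⁻¹ * v ∈ Fi22.H := by
    refine mem_of_fix _ ?_
    change Fi22.π (w⁻¹ * v) o = o
    rw [map_mul, Equiv.Perm.mul_apply, hv, map_inv, ← h]
    exact Equiv.symm_apply_apply _ _
  have hc := z_comm _ hm
  calc v * z * v⁻¹ = w * (w⁻¹ * v * z) * v⁻¹ := by group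
    _ = w * (z * (w⁻¹ * v)) * v⁻¹ := by rw [hc]
    _ = w * z * w⁻¹ := by group

theorem tp_o : tp o = z := by simpa using tp_eq 1 (p := o) (by simp)

theorem tp_smul (w : F22) (p : Fin 3510) : tp (Fi22.π w p) = w * tp p * w⁻¹ := by
  obtain ⟨v, hv⟩ := exists_rep p
  rw [tp_eq v hv, tp_eq (w * v) (p := Fi22.π w p) (by rw [map_mul, Equiv.Perm.mul_apply, hv])]
  group

theorem tp_injective : Function.Injective tp := by
  intro p q h
  obtain ⟨v, hv⟩ := exists_rep p
  obtain ⟨w, hw⟩ := exists_rep q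
  rw [tp_eq v hv, tp_eq w hw] at h
  have hm : w⁻¹ * v ∈ Fi22.H := by
    rw [← centralizer_z, Subgroup.mem_centralizer_singleton_iff]
    calc w⁻¹ * v * z = w⁻¹ * (v * z * v⁻¹) * v := by group
      _ = w⁻¹ * (w * z * w⁻¹) * v := by rw [h]
      _ = z * (w⁻¹ * v) := by group
  have hfix := Fi22.sub_fix (by omega) _ hm
  change Fi22.π (w⁻¹ * v) o = o at hfix
  rw [map_mul, Equiv.Perm.mul_apply, hv, map_inv] at hfix
  rw [← hw]
  exact (Equiv.symm_apply_eq _).1 hfix

theorem tp_inv (p : Fin 3510) : (tp p)⁻¹ = tp p := by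
  obtain ⟨v, hv⟩ := exists_rep p
  rw [tp_eq v hv, mul_inv_rev, mul_inv_rev, inv_inv, show z⁻¹ = z from Fi22U6.g_inv 0 (by omega)]
  group

theorem commute_iff (p q : Fin 3510) : Commute (tp p) (tp q) ↔ Fi22.π (tp p) q = q := by
  rw [← tp_injective.eq_iff (a := Fi22.π (tp p) q), tp_smul]
  constructor
  · intro h; rw [h.eq, mul_inv_cancel_right]
  · intro h; exact mul_inv_eq_iff_eq_mul.1 h

theorem conj_tp (p q : Fin 3510) : tp p * tp q * (tp p)⁻¹ = tp (Fi22.π (tp p) q) := (tp_smul _ _).symm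

theorem mem_conjugates (u : F22) (hu : u ∈ conjugatesOf z) : ∃ p, tp p = u := by
  obtain ⟨w, rfl⟩ := isConj_iff.mp hu
  exact ⟨_, tp_eq w rfl⟩

theorem tp_mem (p : Fin 3510) : tp p ∈ conjugatesOf z := by
  obtain ⟨w, hw⟩ := exists_rep p
  exact isConj_iff.mpr ⟨w, (tp_eq w hw).symm⟩

/-- A word moving the base point gives the transposition as a word. -/
theorem π_tp_word (l : List ℕ) (hl : ∀ x ∈ l, x < 16) (p : Fin 3510)
    (hp : scan Fi22.table l 0 = (p : ℕ)) (k : Fin 3510) :
    ((Fi22.π (tp p) k : Fin 3510) : ℕ) = scan Fi22.table (l.reverse ++ [0] ++ l) k := by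
  have hr : ∀ x ∈ l.reverse, x < 16 := fun x hx => hl x (List.mem_reverse.1 hx)
  have hw : Fi22.π (l.reverse.map Fi22.g).prod o = p :=
    Fin.ext (by rw [π_word _ hr, List.reverse_reverse]; exact hp)
  have e : tp p = ((l.reverse ++ [0] ++ l).map Fi22.g).prod := by
    rw [tp_eq _ hw, Fi22U6.word_inv _ hr, List.reverse_reverse]
    simp [z, mul_assoc]
  rw [e, π_word _ (by
    simp only [List.mem_append, List.mem_singleton]
    rintro x ((hx | rfl) | hx)
    exacts [hr x hx, by omega, hl x hx])]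
  simp

end CfsgLib.FischerM23
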