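import Cfsg.Agent.Lib.FischerM23.Node
import Cfsg.Agent.Lib.FischerM23.N6D

set_option autoImplicit false
set_option linter.all false

/-! Generated certificate data for the configuration tree. -/

namespace CfsgLib.FischerM23.N6

open CfsgLib.CosetEnum

def wP : List (List ℕ) := [[1, 0, 2, 1], [1, 0, 2, 1, 3], [1, 0, 2, 1, 3, 2, 4], [1, 0, 2, 1, 3, 2, 4, 3, 5, 4, 6, 5]]

def wS : List (List ℕ) := [[1, 2, 3, 4, 7, 3, 2, 1, 8, 7, 3, 2, 4, 3, 5, 6], [1, 2, 3, 4, 7, 3, 2, 1, 8, 7, 3, 2, 4, 3], [1, 2, 3, 4, 5, 6, 7, 3, 2, 1, 8, 7, 3, 2, 4, 3, 5, 4, 7, 3], [1, 2, 3, 4, 5, 7, 3, 2, 1, 4, 3, 2, 7, 3, 4, 8]]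

noncomputable def par : Tr :=
 (.node 2048
 (.node 1024
 (.leaf 0x0)
 (.leaf 0x0))
 (.node 1024
 (.leaf 0x0)
 (.leaf 0x0)))

theorem reach_ok_0 : allFrom (fun k => reachTest N6D.T (valid [6, 10, 26, 154] wP [true, false, true, true]) [] [] par k) 512 0 = true := by decide +kernel
theorem reach_ok_512 : allFrom (fun k => reachTest N6D.T (valid [6, 10, 26, 154] wP [true, false, true, true]) [] [] par k) 512 512 = true := by decide +kernel
theorem reach_ok_1024 : allFrom (fun k => reachTest N6D.T (valid [6, 10, 26, 154] wP [true, false, true, true]) [] [] par k) 512 1024 = true := by decide +kernel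
theorem reach_ok_1536 : allFrom (fun k => reachTest N6D.T (valid [6, 10, 26, 154] wP [true, false, true, true]) [] [] par k) 512 1536 = true := by decide +kernel
theorem reach_ok_2048 : allFrom (fun k => reachTest N6D.T (valid [6, 10, 26, 154] wP [true, false, true, true]) [] [] par k) 512 2048 = true := by decide +kernel
theorem reach_ok_2560 : allFrom (fun k => reachTest N6D.T (valid [6, 10, 26, 154] wP [true, false, true, true]) [] [] par k) 512 2560 = true := by decide +kernel
theorem reach_ok_3072 : allFrom (fun k => reachTest N6D.T (valid [6, 10, 26, 154] wP [true, false, true, true]) [] [] par k) 438 3072 = true := by decide +kernel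
theorem reach_ok : ∀ k < 3510, reachTest N6D.T (valid [6, 10, 26, 154] wP [true, false, true, true]) [] [] par k = true := by
  intro k hk
  rcases Nat.lt_or_ge k 512 with h | h
  · exact allFrom_spec _ _ _ reach_ok_0 k (by omega) (by omega)
  rcases Nat.lt_or_ge k 1024 with h | h
  · exact allFrom_spec _ _ _ reach_ok_512 k (by omega) (by omega)
  rcases Nat.lt_or_ge k 1536 with h | h
  · exact allFrom_spec _ _ _ reach_ok_1024 k (by omega) (by omega)
  rcases Nat.lt_or_ge k 2048 with h | h
  · exact allFrom_spec _ _ _ reach_ok_1536 k (by omega) (by omega)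
  rcases Nat.lt_or_ge k 2560 with h | h
  · exact allFrom_spec _ _ _ reach_ok_2048 k (by omega) (by omega)
  rcases Nat.lt_or_ge k 3072 with h | h
  · exact allFrom_spec _ _ _ reach_ok_2560 k (by omega) (by omega)
  rcases Nat.lt_or_ge k 3510 with h | h
  · exact allFrom_spec _ _ _ reach_ok_3072 k (by omega) (by omega)
  omega

theorem result {G : Type*} [Group G] {D : Set G} {d : G} {f : Fin 3510 → G} (M : PointMap D d f)
    (hAll : ∀ c ∈ D, ¬ Commute d c → ¬ ∀ a ∈ pts, InT D f c a)
    (hT : Realised Fi22.π ⊤ N6D.T) :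
    ∀ c, St D d f [6, 10, 26, 154] c → Good D d f ∨ Bad D f c := by
  refine node M [6, 10, 26, 154] wP wS [true, false, true, true] N6D.T hT (by decide +kernel) 4 (by decide +kernel) [] par reach_ok ?_
  intro r hr
  simp at hr

end CfsgLib.FischerM23.N6
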