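import Cfsg.Agent.Lib.FischerM23.Cert

/-!
The search tree: configurations in the common link of a non-commuting pair and their orbit reduction.
-/

set_option autoImplicit false

namespace CfsgLib.FischerM23

open CfsgLib.CosetEnum
open CfsgLib.ThreeTrans (link)

variable {G : Type*} [Group G] {D : Set G} {d : G} {f : Fin 3510 → G}

/-- Six points generating a common link inside the link of the base point. -/
def Sl : List ℕ := [502, 308, 1072, 473, 474, 448]

/-- A point other than the base point not commuting with it. -/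
def q₀ : Fin 3510 := ⟨1, by omega⟩

/-- The six points and three non-neighbours of the first of them. -/
def SN : List ℕ := Sl ++ NN where
  /-- Non-neighbours of the first point. -/
  NN : List ℕ := [16, 26, 40]

/-- The nine points of the generators. -/
def pts : List ℕ := [0, 2, 6, 16, 40, 88, 154, 43, 92]

/-- The points of the generators without `g`. -/
def K1 : List ℕ := [0, 2, 6, 16, 40, 88, 43, 92]

/-- The points of the generators without `a`. -/
def K2 : List ℕ := [2, 6, 16, 40, 88, 154, 43, 92]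

theorem allLin_intro (P : ℕ → Bool) : ∀ c k, (∀ i, k ≤ i → i < k + c → P i = true) → allLin P c k = true := by
  intro c
  induction c with
  | zero => intro k _; rfl
  | succ c ih =>
    intro k h
    unfold allLin
    simp only [strict_eq, Bool.and_eq_true]
    have h2 := ih (k + 1) fun i h1 h2 => h i (by omega) (by omega)
    unfold allLin at h2
    simp only [strict_eq] at h2
    exact ⟨h k le_rfl (by omega), h2⟩

theorem allFrom_intro (P : ℕ → Bool) (c k : ℕ) (h : ∀ i, k ≤ i → i < k + c → P i = true) :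
    allFrom P c k = true := by
  suffices ∀ fuel c k, (∀ i, k ≤ i → i < k + c → P i = true) → allSplit P fuel c k = true from
    this 20 c k h
  intro fuel
  induction fuel with
  | zero => intro c k h; exact allLin_intro P c k h
  | succ n ih =>
    intro c k h
    unfold allSplit
    simp only [strict_eq]
    rcases Nat.blt c 64 with _ | _
    · have h1 := ih (c / 2) k fun i a b => h i a (by omega)
      have h2 := ih (c - c / 2) (k + c / 2) fun i a b => h i (by omega) (by omega)
      unfold allSplit at h1 h2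
      simp only [strict_eq] at h1 h2
      show (_ && _) = true
      rw [Bool.and_eq_true]
      exact ⟨h1, h2⟩
    · exact allLin_intro P c k h

/-- A configuration reached so far. -/
def St (D : Set G) (d : G) (f : Fin 3510 → G) (P : List ℕ) (c : G) : Prop :=
  c ∈ D ∧ ¬ Commute d c ∧ f o ∈ link D c ∧ ∃ g : G,
    (∀ a ∈ SN, ∃ b, Rel f g a b ∧ InT D f c b ∧ InT D f (f o) b) ∧
    ∀ i < P.length, Rel f g (Sl.getD i 0) (P.getD i 0)

/-- A member outside commuting with one of the two point sets of generators. -/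
def Good (D : Set G) (d : G) (f : Fin 3510 → G) : Prop :=
  ∃ c ∈ D, ¬ Commute d c ∧ ∃ K ∈ [K1, K2], ∀ a ∈ K, InT D f c a

/-- At most two members of the common link do not commute with the base point. -/
def Bad (D : Set G) (f : Fin 3510 → G) (c : G) : Prop :=
  ∃ b₁ b₂ : Fin 3510, ∀ y, f y ∈ link D c → ¬ Commute (f o) (f y) → y = b₁ ∨ y = b₂

theorem st_move (M : PointMap D d f) {P : List ℕ} {c : G} (h : St D d f P c)
    (w : Cfsg.Spor.Fi22) (hw : Fi22.π w o = o) {g : G} (hgd : g * d * g⁻¹ = d)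
    (hg : ∀ p, g * f p * g⁻¹ = f (Fi22.π w p)) (P' : List ℕ) (hlen : P'.length = P.length)
    (hP : ∀ i < P.length, ∀ (hi : P.getD i 0 < 3510),
      ((Fi22.π w ⟨_, hi⟩ : Fin 3510) : ℕ) = P'.getD i 0) :
    St D d f P' (g * c * g⁻¹) := by
  obtain ⟨hc, hdc, ho, k, hk, hPk⟩ := h
  have hgo : g * f o * g⁻¹ = f o := by rw [hg, hw]
  refine ⟨CfsgLib.ThreeTransp.class_conj_mem M.cls g hc, fun hcc => hdc ?_,
    hgo ▸ CfsgLib.FischerType.link_conj_mem M.cls g ho, g * k, fun a ha => ?_, fun i hi => ?_⟩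
  · rw [← hgd] at hcc
    exact (CfsgLib.ThreeTrans.commute_conj_iff' g d c).1 hcc
  · obtain ⟨b, ⟨h1, h2, hab⟩, ⟨_, hbc⟩, _, hbo⟩ := hk a ha
    have hgb := hg ⟨b, h2⟩
    refine ⟨(Fi22.π w ⟨b, h2⟩ : Fin 3510), ⟨h1, Fin.isLt _, ?_⟩, ⟨Fin.isLt _, ?_⟩, Fin.isLt _, ?_⟩
    · rw [Fin.eta, ← hgb, ← hab]; group
    · rw [Fin.eta, ← hgb]; exact CfsgLib.FischerType.link_conj_mem M.cls g hbc
    · rw [Fin.eta, ← hgb, ← hgo]; exact CfsgLib.FischerType.link_conj_mem M.cls g hbo
  · rw [hlen] at hi
    obtain ⟨h1, h2, hab⟩ := hPk i hi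
    refine ⟨h1, hP i hi h2 ▸ Fin.isLt _, ?_⟩
    rw [show (⟨P'.getD i 0, hP i hi h2 ▸ Fin.isLt _⟩ : Fin 3510) = Fi22.π w ⟨_, h2⟩ from
      Fin.ext (hP i hi h2).symm, ← hg, ← hab]
    group

theorem conc_back (M : PointMap D d f) {c : G} (w : Cfsg.Spor.Fi22) (hw : Fi22.π w o = o) {g : G}
    (hg : ∀ p, g * f p * g⁻¹ = f (Fi22.π w p)) (h : Good D d f ∨ Bad D f (g * c * g⁻¹)) :
    Good D d f ∨ Bad D f c := by
  rcases h with h | ⟨b₁, b₂, hb⟩
  · exact Or.inl h
  refine Or.inr ⟨(Fi22.π w).symm b₁, (Fi22.π w).symm b₂, fun y hy hoy => ?_⟩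
  have hgo : g * f o * g⁻¹ = f o := by rw [hg, hw]
  have h1 := hb (Fi22.π w y) (hg y ▸ CfsgLib.FischerType.link_conj_mem M.cls g hy) fun hcm => hoy
    ((CfsgLib.ThreeTrans.commute_conj_iff' g _ _).1 (by rw [hgo, hg]; exact hcm))
  simpa only [Equiv.eq_symm_apply] using h1

/-- The conjugation word of a point with word `w`. -/
noncomputable def tScan (w : List ℕ) (k : ℕ) : ℕ := scan Fi22.table (w.reverse ++ [0] ++ w) k

/-- A point that may extend the configuration. -/
noncomputable def valid (P : List ℕ) (wP : List (List ℕ)) (bits : List Bool) (k : ℕ) : Bool :=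
  !(Nat.beq k 0) && Nat.beq (act Fi22.table 0 k) k &&
    allFrom (fun j => !(Nat.beq k (P.getD j 0)) &&
      (Nat.beq (tScan (wP.getD j []) k) k == bits.getD j false)) P.length 0

/-- The data of a level is right. -/
noncomputable def levelTest (P : List ℕ) (wP wS : List (List ℕ)) (bits : List Bool) (i : ℕ) : Bool :=
  Nat.beq P.length i && Nat.blt i 6 && allFrom (fun j => (wP.getD j []).all (fun x => Nat.blt x 16) &&
    (wS.getD j []).all (fun x => Nat.blt x 16) && Nat.beq (scan Fi22.table (wP.getD j []) 0) (P.getD j 0) &&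
    Nat.beq (scan Fi22.table (wS.getD j []) 0) (Sl.getD j 0) &&
    !(Nat.beq (Sl.getD i 0) (Sl.getD j 0)) &&
    (Nat.beq (tScan (wS.getD j []) (Sl.getD i 0)) (Sl.getD i 0) == bits.getD j false)) i 0

/-- Every valid point reaches a root. -/
noncomputable def reachTest (T : List Tr) (val : ℕ → Bool) (roots : List ℕ) (bads : List ℕ) (par : Tr)
    (k : ℕ) : Bool :=
  !(val k) || roots.any (Nat.beq k) ||
    strict (par.get 48 k) fun e => strict ((e >>> 4) &&& 268435455) fun j => strict (e &&& 15) fun x =>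
      Nat.blt j 3510 && Nat.blt x T.length && Nat.blt (par.get 48 j >>> 32) (e >>> 32) &&
        Nat.beq (act T x j) k && bads.all (fun b => !(Nat.beq j b))

theorem reach (T : List Tr) (val : ℕ → Bool) (roots bads : List ℕ) (par : Tr)
    (htest : ∀ k < 3510, reachTest T val roots bads par k = true) (Q : ℕ → Prop) (C : ℕ → Prop)
    (hval : ∀ k < 3510, Q k → val k = true) (hroot : ∀ r ∈ roots, r < 3510 → Q r → C r)
    (hback : ∀ j k x, j < 3510 → k < 3510 → x < T.length → act T x j = k → (∀ b ∈ bads, j ≠ b) →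
      Q k → Q j ∧ (C j → C k)) :
    ∀ k < 3510, Q k → C k := by
  intro k
  induction hd : par.get 48 k >>> 32 using Nat.strong_induction_on generalizing k with
  | _ e ih =>
    intro hk hQ
    have h := htest k hk
    unfold reachTest at h
    simp only [strict_eq, Bool.or_eq_true, Bool.and_eq_true, hval k hk hQ, Bool.not_true,
      List.any_eq_true, List.all_eq_true, Bool.not_eq_true'] at h
    rcases h with ((h | ⟨r, hr, hkr⟩) | ⟨⟨⟨⟨h1, h2⟩, h3⟩, h4⟩, h5⟩)
    · exact Bool.noConfusion h
    · rw [Nat.eq_of_beq_eq_true hkr] at hk hQ ⊢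
      exact hroot r hr hk hQ
    · obtain ⟨hQj, hC⟩ := hback _ k _ (Nat.le_of_ble_eq_true h1) hk (Nat.le_of_ble_eq_true h2)
        (Nat.eq_of_beq_eq_true h4) (fun b hb he => by
          have h6 := h5 b hb
          rw [he] at h6
          exact absurd (Nat.beq_refl b) (by rw [h6]; exact Bool.noConfusion)) hQ
      exact hC (ih _ (hd ▸ Nat.le_of_ble_eq_true h3) _ rfl (Nat.le_of_ble_eq_true h1) hQj)

theorem commute_o_iff (M : PointMap D d f) (y : Fin 3510) :
    Commute (f o) (f y) ↔ act Fi22.table 0 y = y := by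
  rw [M.commute_iff, tp_o, Fin.ext_iff, show Fi22U6.z = Fi22.g 0 from rfl, Fi22U6.π_g 0 (by omega)]

theorem commute_word_iff (M : PointMap D d f) (w : List ℕ) (hw : w.all (fun x => Nat.blt x 16) = true)
    (p y : Fin 3510) (hp : scan Fi22.table w 0 = (p : ℕ)) :
    Commute (f p) (f y) ↔ tScan w y = y := by
  rw [M.commute_iff, Fin.ext_iff, π_tp_word w (fun x hx => Nat.le_of_ble_eq_true
    (List.all_eq_true.1 hw x hx)) p hp]
  rfl

/-- One level of the tree. -/
theorem node (M : PointMap D d f) (P : List ℕ) (wP wS : List (List ℕ)) (bits : List Bool)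
    (T : List Tr) (hT : Realised Fi22.π ⊤ T)
    (hfix : allFrom (fun x => Nat.beq (act T x 0) 0 &&
      P.all (fun p => Nat.beq (act T x p) p)) T.length 0 = true)
    (i : ℕ) (hlev : levelTest P wP wS bits i = true) (roots : List ℕ) (par : Tr)
    (htest : ∀ k < 3510, reachTest T (valid P wP bits) roots [] par k = true)
    (hroot : ∀ r ∈ roots, ∀ c, St D d f (P ++ [r]) c → Good D d f ∨ Bad D f c) :
    ∀ c, St D d f P c → Good D d f ∨ Bad D f c := by
  unfold levelTest at hlev
  simp only [Bool.and_eq_true] at hlev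
  obtain ⟨⟨hi, hi6⟩, hlev⟩ := hlev
  have hi := Nat.eq_of_beq_eq_true hi
  have hi6 := Nat.le_of_ble_eq_true hi6
  have hQ : ∀ k < 3510, (∃ c, St D d f (P ++ [k]) c) → valid P wP bits k = true := by
    rintro k hk ⟨c, hc, -, -, g, hS, hP⟩
    have hmem : Sl.getD i 0 ∈ SN := by
      rw [List.getD_eq_getElem _ _ (show i < Sl.length from hi6)]
      exact List.mem_append_left _ (List.getElem_mem _)
    obtain ⟨b, ⟨ha, hb, hab⟩, -, ⟨_, hbo⟩⟩ := hS _ hmem
    obtain ⟨_, hk', hak⟩ := hP i (by simp [hi])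
    have ebk : (⟨b, hb⟩ : Fin 3510) = ⟨_, hk'⟩ := M.inj (hab.symm.trans hak)
    rw [ebk] at hbo hab
    simp only [List.getD_append_right _ _ _ _ hi.le, hi, Nat.sub_self, List.getD_cons_zero] at hbo hab
    unfold valid
    simp only [Bool.and_eq_true, Bool.not_eq_true']
    refine ⟨⟨?_, ?_⟩, ?_⟩
    · rw [Bool.eq_false_iff]
      intro h0
      exact hbo.2.1 (congrArg f (Fin.ext (Nat.eq_of_beq_eq_true h0)))
    · rw [(commute_o_iff M ⟨k, hk⟩).1 hbo.2.2]
      exact Nat.beq_refl _
    · refine allFrom_intro _ _ _ fun j _ hj => ?_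
      have hj' : j < i := by omega
      have h := allFrom_spec _ _ _ hlev j (Nat.zero_le _) (by omega)
      simp only [Bool.and_eq_true, Bool.not_eq_true'] at h
      obtain ⟨⟨⟨⟨⟨hwP, hwS⟩, hpP⟩, hpS⟩, hne⟩, hbit⟩ := h
      obtain ⟨ha', hb', hab'⟩ := hP j (by rw [List.length_append]; omega)
      simp only [List.getD_append _ _ _ _ (show j < P.length by omega)] at hb' hab'
      simp only [Bool.and_eq_true, Bool.not_eq_true']
      refine ⟨?_, ?_⟩
      · rw [Bool.eq_false_iff]
        intro he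
        have hkj : (⟨k, hk⟩ : Fin 3510) = ⟨_, hb'⟩ := Fin.ext (Nat.eq_of_beq_eq_true he)
        rw [hkj, ← hab', mul_left_inj, mul_right_inj] at hab
        have h1 := congrArg Fin.val (M.inj hab)
        rw [show Nat.beq (Sl.getD i 0) (Sl.getD j 0) = true by
          rw [show Sl.getD i 0 = Sl.getD j 0 from h1]; exact Nat.beq_refl _] at hne
        exact Bool.noConfusion hne
      · have h1 := commute_word_iff M _ hwP ⟨_, hb'⟩ ⟨k, hk⟩ (Nat.eq_of_beq_eq_true hpP)
        have h2 := commute_word_iff M _ hwS ⟨_, ha'⟩ ⟨_, ha⟩ (Nat.eq_of_beq_eq_true hpS)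
        rw [← hab', ← hab, CfsgLib.ThreeTrans.commute_conj_iff'] at h1
        have e : Nat.beq (tScan (wP.getD j []) k) k =
            Nat.beq (tScan (wS.getD j []) (Sl.getD i 0)) (Sl.getD i 0) := by
          rw [Bool.eq_iff_iff]
          constructor
          · intro h; rw [show tScan _ _ = Sl.getD i 0 from h2.1 (h1.2 (Nat.eq_of_beq_eq_true h))]; exact Nat.beq_refl _
          · intro h; rw [show tScan _ _ = k from h1.1 (h2.2 (Nat.eq_of_beq_eq_true h))]; exact Nat.beq_refl _
        rw [e]; exact hbit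
  have key := reach T (valid P wP bits) roots [] par htest
    (fun k => ∃ c, St D d f (P ++ [k]) c) (fun k => ∀ c, St D d f (P ++ [k]) c → Good D d f ∨ Bad D f c)
    hQ (fun r hr _ _ => hroot r hr) fun j k x hj hk hx hact _ _ => ?_
  · intro c hc
    obtain ⟨hc1, hc2, hc3, g, hS, hP⟩ := hc
    have hmem : Sl.getD i 0 ∈ SN := by
      rw [List.getD_eq_getElem _ _ (show i < Sl.length from hi6)]
      exact List.mem_append_left _ (List.getElem_mem _)
    obtain ⟨b, hab, -, -⟩ := hS _ hmem
    have hst : St D d f (P ++ [b]) c := by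
      refine ⟨hc1, hc2, hc3, g, hS, fun j hj => ?_⟩
      rw [List.length_append, List.length_singleton] at hj
      rcases Nat.lt_succ_iff_lt_or_eq.1 hj with hlt | rfl
      · rw [List.getD_append _ _ _ _ hlt]; exact hP j hlt
      · rw [List.getD_append_right _ _ _ _ le_rfl, Nat.sub_self, List.getD_cons_zero, hi]; exact hab
    exact key b hab.2.1 ⟨c, hst⟩ c hst
  · obtain ⟨z, -, hz⟩ := hT x hx
    have h := allFrom_spec _ _ _ hfix x (Nat.zero_le _) (by omega)
    simp only [Bool.and_eq_true, List.all_eq_true] at h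
    have hzo : Fi22.π z⁻¹ o = o := by
      rw [map_inv, Equiv.Perm.inv_def, Equiv.symm_apply_eq]
      exact Fin.ext ((hz o).trans (Nat.eq_of_beq_eq_true h.1)).symm
    obtain ⟨g, hgd, hg⟩ := M.lift z⁻¹
    have hmove : ∀ c, St D d f (P ++ [k]) c → St D d f (P ++ [j]) (g * c * g⁻¹) := by
      refine fun c hc => st_move M hc z⁻¹ hzo hgd hg _ (by simp) fun a ha hlt => ?_
      have hpt : ∀ (p q : ℕ) (hp : p < 3510) (hq : q < 3510), act T x p = q →
          ((Fi22.π z⁻¹ ⟨q, hq⟩ : Fin 3510) : ℕ) = p := fun p q hp hq he => by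
        have h2 : Fi22.π z ⟨p, hp⟩ = ⟨q, hq⟩ := Fin.ext ((hz ⟨p, hp⟩).trans he)
        rw [map_inv, Equiv.Perm.inv_def, ← h2, Equiv.symm_apply_apply]
      refine hpt _ _ ?_ hlt ?_ <;>
        rw [List.length_append, List.length_singleton] at ha <;>
        rcases Nat.lt_succ_iff_lt_or_eq.1 ha with hlt' | rfl
      · rw [List.getD_append _ _ _ _ hlt'] at hlt ⊢; exact hlt
      · rw [List.getD_append_right _ _ _ _ le_rfl, Nat.sub_self, List.getD_cons_zero]; exact hj
      · simp only [List.getD_append _ _ _ _ hlt']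
        rw [List.getD_eq_getElem _ _ hlt']
        exact Nat.eq_of_beq_eq_true (h.2 _ (List.getElem_mem _))
      · simp only [List.getD_append_right _ _ _ _ le_rfl, Nat.sub_self, List.getD_cons_zero]
        exact hact
    rename_i hQk
    obtain ⟨c, hc⟩ := hQk
    exact ⟨⟨_, hmove c hc⟩, fun hC c hc => conc_back M z⁻¹ hzo hg (hC _ (hmove c hc))⟩

/-- An extension refuted by two programs. -/
theorem refute (M : PointMap D d f) {P : List ℕ} {c : G} (h : St D d f P c) {i j : ℕ}
    (prog : List (Step × Step)) (n : ℕ)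
    (hr : run2 (differAt i j) prog (Sl.take n) P = true) (hn : P.length = n := by rfl)
    (hn6 : n ≤ 6 := by omega) : False := by
  obtain ⟨-, -, -, g, -, hP⟩ := h
  refine differ_false M g (by simp [hn, Sl]; omega) (fun k hk => ?_) hr
  rw [List.length_take] at hk
  have hk' : k < n := lt_of_lt_of_le hk (Nat.min_le_left _ _)
  rw [show (Sl.take n).getD k 0 = Sl.getD k 0 by
    simp [List.getD_eq_getElem?_getD, List.getElem?_take, hk']]
  exact hP k (hn ▸ hk')

/-- The values contain a translate of one of the point sets, or all nine points. -/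
noncomputable def goodTest (w : List ℕ) (K : List ℕ) (vals : List ℕ) : Bool :=
  w.all (fun x => Nat.blt x 16) && K.all (fun a => vals.any (Nat.beq (scan Fi22.table w a)))

/-- A leaf of the tree. -/
theorem leaf (M : PointMap D d f) (hAll : ∀ c ∈ D, ¬ Commute d c → ¬ ∀ a ∈ pts, InT D f c a)
    (P : List ℕ) (hlen : P.length = 6) (wP : List (List ℕ)) (T : List Tr)
    (hwP : allFrom (fun x => (wP.getD x []).all (fun y => Nat.blt y 16) &&
      Nat.beq (scan Fi22.table (wP.getD x []) 0) (P.getD x 0)) 6 0 = true)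
    (hTlen : T.length = 6) (hcol : ∀ k < 3510, allFrom (fun x =>
      Nat.beq (tScan (wP.getD x []) k) (act T x k)) 6 0 = true)
    (roots bads : List ℕ) (hb : bads.length ≤ 2) (par : Tr)
    (htest : ∀ k < 3510, reachTest T (fun k => !(Nat.beq (act Fi22.table 0 k) k)) roots bads par k = true)
    (hroot : ∀ r ∈ roots, r ∈ bads ∨ ∃ prog w K, K ∈ [K1, K2, pts] ∧ (K = pts → w = []) ∧
      run1 (goodTest w K) prog (0 :: P ++ [r]) = true) :
    ∀ c, St D d f P c → Good D d f ∨ Bad D f c := by
  intro c hc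
  obtain ⟨hc1, hc2, hco, g, hS, hP⟩ := hc
  have hPT : ∀ x < 6, InT D f c (P.getD x 0) ∧ InT D f (f o) (P.getD x 0) := by
    intro x hx
    obtain ⟨ha, hb', hab⟩ := hP x (by omega)
    have hmem : Sl.getD x 0 ∈ SN := by
      rw [List.getD_eq_getElem _ _ (show x < Sl.length from hx)]
      exact List.mem_append_left _ (List.getElem_mem _)
    obtain ⟨b, ⟨_, hb2, hab2⟩, ⟨_, h1⟩, _, h2⟩ := hS _ hmem
    have e : (⟨b, hb2⟩ : Fin 3510) = ⟨_, hb'⟩ := M.inj (hab2.symm.trans hab)
    rw [e] at h1 h2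
    exact ⟨⟨hb', h1⟩, hb', h2⟩
  have hstep := reach T (fun k => !(Nat.beq (act Fi22.table 0 k) k)) roots bads par htest
    (fun k => InT D f c k ∧ ¬ act Fi22.table 0 k = k) (fun k => Good D d f ∨ k ∈ bads) ?_ ?_ ?_
  · by_cases hgood : Good D d f
    · exact Or.inl hgood
    have key : ∀ y : Fin 3510, f y ∈ link D c → ¬ Commute (f o) (f y) → (y : ℕ) ∈ bads := fun y hy ho =>
      (hstep y y.2 ⟨⟨y.2, hy⟩, fun he => ho ((commute_o_iff M y).2 he)⟩).resolve_left hgood
    refine Or.inr ?_
    match bads, hb with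
    | [], _ => exact ⟨o, o, fun y hy ho => absurd (key y hy ho) (by simp)⟩
    | [a], _ =>
      by_cases ha : a < 3510
      · exact ⟨⟨a, ha⟩, ⟨a, ha⟩, fun y hy ho => Or.inl (Fin.ext (by simpa using key y hy ho))⟩
      · exact ⟨o, o, fun y hy ho => absurd ((List.mem_singleton.1 (key y hy ho)) ▸ y.2) ha⟩
    | [a, b], _ =>
      refine ⟨if h : a < 3510 then ⟨a, h⟩ else o, if h : b < 3510 then ⟨b, h⟩ else o, fun y hy ho => ?_⟩
      rcases (by simpa using key y hy ho : (y : ℕ) = a ∨ (y : ℕ) = b) with h | h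
      · left; rw [dif_pos (h ▸ y.2)]; exact Fin.ext h
      · right; rw [dif_pos (h ▸ y.2)]; exact Fin.ext h
    | _ :: _ :: _ :: _, h => simp at h
  · intro k _ hk
    rw [Bool.not_eq_true', Bool.eq_false_iff]
    exact fun he => hk.2 (Nat.eq_of_beq_eq_true he)
  · intro r hr hr3 hQ
    rcases hroot r hr with h | ⟨prog, w, K, hK, hKp, hrun⟩
    · exact Or.inr h
    left
    obtain ⟨vals, hv, hvT⟩ := run1_spec M c _ prog _ hrun (by
      intro x hx
      rcases x with _ | x
      · exact ⟨o.2, hco⟩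
      · simp only [List.cons_append, List.length_cons, List.length_append, List.length_nil, hlen] at hx
        rw [List.cons_append, List.getD_cons_succ]
        rcases Nat.lt_succ_iff_lt_or_eq.1 (Nat.lt_of_succ_lt_succ hx) with h | rfl
        · rw [List.getD_append _ _ _ _ (by omega)]; exact (hPT x h).1
        · rw [List.getD_append_right _ _ _ _ hlen.le, hlen, Nat.sub_self, List.getD_cons_zero]
          exact hQ.1)
    unfold goodTest at hv
    simp only [Bool.and_eq_true, List.all_eq_true, List.any_eq_true] at hv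
    have hw : ∀ x ∈ w, x < 16 := fun x hx => Nat.le_of_ble_eq_true (hv.1 x hx)
    have hmem : ∀ a ∈ K, InT D f c (scan Fi22.table w a) := by
      intro a ha
      obtain ⟨v, hv', he⟩ := hv.2 a ha
      obtain ⟨x, hx, rfl⟩ := List.getElem_of_mem hv'
      rw [Nat.eq_of_beq_eq_true he, ← List.getD_eq_getElem _ 0 hx]
      exact hvT x hx
    by_cases hKpts : K = pts
    · refine absurd (fun a ha => ?_) (hAll c hc1 hc2)
      have h := hmem a (hKpts ▸ ha)
      rwa [hKp hKpts, scan_nil] at h
    · set z := (w.reverse.map Fi22.g).prod with hz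
      obtain ⟨k, hkd, hk⟩ := M.lift z
      refine ⟨k⁻¹ * c * k⁻¹⁻¹, CfsgLib.ThreeTransp.class_conj_mem M.cls _ hc1, fun hcm => hc2 ?_, K,
        by rcases List.mem_cons.1 hK with h | h
           · simp [h]
           · rcases List.mem_cons.1 h with h | h
             · simp [h]
             · exact absurd (List.mem_singleton.1 h) hKpts,
        fun a ha => ?_⟩
      · have h1 := (CfsgLib.ThreeTrans.commute_conj_iff' k d _).2 hcm
        rw [hkd] at h1
        simpa [mul_assoc] using h1
      · have ha3 : a < 3510 := by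
          rcases List.mem_cons.1 hK with h | h
          · subst h; revert a; decide
          · rcases List.mem_cons.1 h with h | h
            · subst h; revert a; decide
            · exact absurd (List.mem_singleton.1 h) hKpts
        obtain ⟨h3, hin⟩ := hmem a ha
        refine ⟨ha3, ?_⟩
        have e : Fi22.π z ⟨a, ha3⟩ = ⟨_, h3⟩ := Fin.ext (by
          rw [hz, Fi22U6.π_word _ (fun x hx => hw x (List.mem_reverse.1 hx)), List.reverse_reverse])
        have e2 := hk ⟨a, ha3⟩
        rw [e] at e2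
        rw [← e2] at hin
        have h4 := CfsgLib.FischerType.link_conj_mem M.cls k⁻¹ hin
        simpa [mul_assoc] using h4
  · intro j k x hj hk hx hact hnb hQ
    have hx6 : x < 6 := hTlen ▸ hx
    have h1 := allFrom_spec _ _ _ hwP x (Nat.zero_le _) (by omega)
    simp only [Bool.and_eq_true] at h1
    have h2 := Nat.eq_of_beq_eq_true (allFrom_spec _ _ _ (hcol j hj) x (Nat.zero_le _) (by omega))
    rw [hact] at h2
    obtain ⟨⟨hp, hpc⟩, _, hpo⟩ := hPT x hx6
    have hjk : Fi22.π (tp ⟨_, hp⟩) ⟨j, hj⟩ = ⟨k, hk⟩ := Fin.ext (by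
      rw [π_tp_word _ (fun y hy => Nat.le_of_ble_eq_true (List.all_eq_true.1 h1.1 y hy)) _
        (Nat.eq_of_beq_eq_true h1.2)]
      exact h2)
    set u := f ⟨_, hp⟩ with hu
    have e : u * f ⟨j, hj⟩ * u⁻¹ = f ⟨k, hk⟩ := by rw [hu, M.conj, hjk]
    have huc : u * c * u⁻¹ = c := CfsgLib.ThreeTrans.conj_self_of_commute hpc.2.2.symm
    have huo : u * f o * u⁻¹ = f o := CfsgLib.ThreeTrans.conj_self_of_commute hpo.2.2.symm
    obtain ⟨⟨_, hkc⟩, hko⟩ := hQ
    refine ⟨⟨⟨hj, ?_⟩, fun he => hko ?_⟩, fun h => ?_⟩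
    · rw [← e, ← huc] at hkc
      exact (mem_link_conj_iff M.cls u c _).1 hkc
    · have h3 := (commute_o_iff M ⟨j, hj⟩).2 he
      have h4 := (CfsgLib.ThreeTrans.commute_conj_iff' u _ _).2 h3
      rw [huo, e] at h4
      exact (commute_o_iff M ⟨k, hk⟩).1 h4
    · exact Or.inl (h.resolve_right fun hjb => hnb j hjb rfl)

end CfsgLib.FischerM23
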